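import Cfsg.Agent.Lib.Char.DegPMinusTwo.Compare
import Cfsg.Agent.Lib.Char.FewSylow.Cubed
import Cfsg.Agent.Lib.DegreeTools.Rationality

/-!
# A faithful character of degree `p - 2`: a perfect group with trivial centre

The character of degree `p - 1` takes the values `0` and `1` at the nontrivial regular elements,
so the group has order `p (p - 1) (p - 2)`.
-/

set_option autoImplicit false

open scoped ComplexConjugate Classical

namespace CfsgLib.Char.DegPMinusTwo

open Cfsg CfsgLib CfsgLib.Blocks CfsgLib.Blocks.DefectOne CfsgLib.CharDeep.ExactP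

universe u

variable {G : Type u} [Group G] [Fintype G] {p : ℕ} [hp : Fact p.Prime] {P : Sylow p G} {D : Frame P}
  {ζ : IrrCharacter G} {θ : IrrCharacter D.K0} {y : G}

omit hp in
theorem sec_of_trivial [Fact p.Prime] (D : Frame P) (hK : D.K0 = ⊥) (φ : IrrCharacter G) (k : ZMod p) :
    D.sec (θone D) φ k = (φ : G → ℂ) (D.x ^ k.val) := by
  rw [Frame.sec, Frame.comp, Cfsg.classInner, Finset.sum_congr rfl (g := fun _ => (φ : G → ℂ) (D.x ^ k.val))
    fun v _ => ?_, Finset.sum_const, Finset.card_univ, ← Nat.card_eq_fintype_card, nsmul_eq_mul, ← mul_assoc,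
    inv_mul_cancel₀ Char.card_ne_zero, one_mul]
  rw [θone_apply, map_one, mul_one, D.coe_el,
    show (v : G) = 1 from Subgroup.mem_bot.1 (hK ▸ v.2), mul_one]

/-- Integers with the square relation of the character of degree `2 t`. -/
theorem zero_or_one_of_relation {t n : ℤ} (ht : 3 ≤ t) (h0 : 0 ≤ n) (hlt : n < 2 * t)
    (h1 : n * (2 * t - n) ≤ 4 * (2 * t - n)) (h2 : 0 ≤ n * n - 2 * t * n + 2 * t) : n = 0 ∨ n = 1 := by
  have h4 : n ≤ 4 := le_of_mul_le_mul_right h1 (by omega)
  interval_cases n <;> omega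

set_option maxHeartbeats 1000000 in
/-- The order of the group. -/
theorem Base.order (B : Base D ζ θ y) (hZ : Subgroup.center G = ⊥) :
    Nat.card G = p * (p - 1) * (p - 2) ∧ D.K0 = ⊥ := by
  have hK : D.K0 = ⊥ := B.K0_eq.trans hZ
  refine ⟨?_, hK⟩
  have hp7 := B.seven_le
  have hp2 : p ≠ 2 := by omega
  obtain ⟨t, ht⟩ := hp.out.odd_of_ne_two hp2
  have ht3 : 3 ≤ t := by omega
  obtain ⟨Q, η₀, l, -, -, hb, hsb, hA, he⟩ := B.exists_linear
  obtain ⟨χ, hχ⟩ : ∃ χ : G → ℂ, χ = (Q.K.b : G → ℂ) := ⟨_, rfl⟩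
  have hχ1 : χ 1 = 2 * (t : ℂ) := by
    rw [hχ, irr_one_eq, show charDegree (Q.K.b : G → ℂ) = 2 * t by omega]
    push_cast
    ring
  have hpC : (p : ℂ) = 2 * (t : ℂ) + 1 := by rw [ht]; push_cast; ring
  have heC : (Q.K.e : ℂ) = 2 * (t : ℂ) - 1 := by
    have h : Q.K.e + 1 = 2 * t := by omega
    have h' : (Q.K.e : ℂ) + 1 = 2 * (t : ℂ) := by exact_mod_cast h
    linear_combination h'
  have hdC : (ζ : G → ℂ) 1 = 2 * (t : ℂ) - 1 := by
    have h : (charDegree (ζ : G → ℂ) : ℂ) + 2 = (p : ℂ) := by exact_mod_cast B.deg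
    rw [irr_one_eq]
    linear_combination h + hpC
  have hχx : ∀ k : ZMod p, k ≠ 0 → χ (D.x ^ k.val) = -1 := fun k hk => by
    rw [hχ, Q.K.val_x (fdeg_θone D) (Or.inr (Or.inl rfl)) hk, Q.K.sec_b k hk, hsb]
    norm_num
  -- `ζ` is exceptional in the principal block
  have hζ : ζ ∈ Q.K.Y := by
    obtain ⟨k, hk, hne⟩ := B.exists_x_ne
    rcases Q.K.mem_of_sec_ne hk (χ := ζ) (by rw [sec_of_trivial D hK]; exact hne) with h | h | h
    · have := B.deg
      rw [h, Q.deg_a] at this
      omega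
    · have := B.deg
      rw [h] at this
      omega
    · exact h
  have hζreg : ∀ g : G, ¬ p ∣ orderOf g → (ζ : G → ℂ) g = χ g - 1 := fun g hg => by
    have h := Q.K.rel ζ hζ g hg
    rw [Q.sa_eq, Q.a_eq, oneChar_apply, hsb, hA] at h
    push_cast at h
    rw [hχ]
    linear_combination h
  have hyy : y * y = 1 := Subgroup.mem_bot.1 (hK ▸ B.sq_mem)
  have hχy : χ y = 0 := by
    obtain ⟨w, hw, hw', -⟩ := exists_fix_bound D hp2 (isCharacter_irr Q.K.b) B.inv
    rw [Q.sum_x_b, ← hχ, hχ1, hsb, hpC] at hw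
    push_cast at hw
    have hw0 : ((2 * t + 1 : ℕ) : ℂ) * w = 0 := by push_cast; linear_combination hw
    rw [Nat.cast_eq_zero.1 ((mul_eq_zero.1 hw0).resolve_left (Nat.cast_ne_zero.2 (by omega))), Nat.cast_zero] at hw'
    rw [hχ]; exact norm_le_zero_iff.1 hw'
  -- the alternating square
  set α : G → ℂ := fun g => (χ g * χ g - χ (g * g)) / 2 with hα
  obtain ⟨c, M, W, X, m₁, -, hX, hdeg, hsum, hαy, hreg⟩ := Q.decompose hp2 B.inv B.regular_y hζ (ψ := α)
    (isCharacter_altSquare (hχ ▸ isCharacter_irr Q.K.b)) fun v hv => by rw [show v = 1 from Subgroup.mem_bot.1 (hK ▸ hv)]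
  have hαx : ∀ k : ZMod p, k ≠ 0 → α (D.x ^ k.val) = 1 := fun k hk => by
    have h2 : k + k ≠ 0 := by
      rw [← two_mul]
      refine mul_ne_zero (fun h => hp2 ?_) hk
      exact (Nat.prime_dvd_prime_iff_eq hp.out Nat.prime_two).1
        ((ZMod.natCast_eq_zero_iff 2 p).1 (by exact_mod_cast h))
    simp only [hα, D.xpow_add, hχx k hk, hχx _ h2]
    norm_num
  rw [Finset.sum_congr rfl fun k hk => hαx k (Finset.ne_of_mem_erase hk), Finset.sum_const,
    Finset.card_erase_of_mem (Finset.mem_univ _), Finset.card_univ, ZMod.card, nsmul_eq_mul, mul_one,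
    Nat.cast_sub hp.out.one_le, Nat.cast_one, hsb, hA, hpC] at hsum
  push_cast at hsum
  have hα1 : α 1 = (t : ℂ) * (2 * t - 1) := by
    simp only [hα, mul_one, hχ1]; ring
  rw [hα1, show charDegree (Q.K.b : G → ℂ) = 2 * t by omega] at hdeg
  push_cast at hdeg
  rw [hpC, heC] at hdeg
  have hMeq : (M : ℤ) = t * (1 - m₁ + c) := by
    have h : ((M : ℤ) : ℂ) = (((t : ℤ) * (1 - m₁ + c) : ℤ) : ℂ) := by
      push_cast
      linear_combination -(1 / 2 : ℂ) * hsum
    exact_mod_cast h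
  have hWeq : (W : ℤ) = (t - 1) * m₁ - t * c := by
    refine mul_left_cancel₀ (show (2 * (t : ℤ) + 1) ≠ 0 by omega) ?_
    have h : (((2 * (t : ℤ) + 1) * W : ℤ) : ℂ) = (((2 * (t : ℤ) + 1) * ((t - 1) * m₁ - t * c) : ℤ) : ℂ) := by
      have hM' : (M : ℂ) = (t : ℂ) * (1 - m₁ + c) := by exact_mod_cast hMeq
      rw [hM'] at hdeg
      push_cast
      linear_combination -hdeg
    exact_mod_cast h
  have hm0 : m₁ = 0 ∧ c = 0 ∧ W = 0 ∧ M = t := by
    have hαy' : α y = -(t : ℂ) := by
      simp only [hα, hyy, hχy, hχ1]; ring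
    rw [hαy', hζreg y B.regular_y, ← hχ, hχy] at hαy
    have hXeq : X = (((t : ℤ) * c - (t + 1) * m₁ : ℤ) : ℂ) := by
      have hM' : (M : ℂ) = (t : ℂ) * (1 - m₁ + c) := by exact_mod_cast hMeq
      rw [hM'] at hαy
      push_cast
      linear_combination -hαy
    have h1 : |(t : ℤ) * c - (t + 1) * m₁| ≤ W := by
      rw [hXeq, Complex.norm_intCast] at hX
      exact_mod_cast hX
    have h2 := (abs_le.1 h1).1
    rw [hWeq] at h2
    have hm : m₁ = 0 := by
      by_contra h
      have h' : (1 : ℤ) ≤ m₁ := by omega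
      nlinarith
    subst hm
    have hc : c = 0 := by
      by_contra h
      have h' : (1 : ℤ) ≤ c := by omega
      have : (t : ℤ) * 1 ≤ t * c := mul_le_mul_of_nonneg_left h' (by omega)
      simp at hWeq
      omega
    subst hc
    simp at hWeq hMeq
    exact ⟨rfl, rfl, hWeq, hMeq⟩
  obtain ⟨rfl, rfl, hW, hMt⟩ := hm0
  have hsq : ∀ g : G, ¬ p ∣ orderOf g → χ (g * g) = χ g * χ g - 2 * (t : ℂ) * χ g + 2 * (t : ℂ) := fun g hg => by
    have h := hreg hW g hg
    rw [hζreg g hg, hMt, ← hχ] at h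
    simp only [hα] at h
    push_cast at h
    linear_combination -2 * h
  -- the values are rational integers
  have hint : ∀ g : G, ∃ n : ℤ, χ g = n := fun g => by
    refine DegreeTools.Rationality.exists_int_of_fixed (hχ ▸ IsCharacter.isIntegral (isCharacter_irr Q.K.b) g) fun σ => ?_
    rw [hχ, ← DegreeTools.Rationality.galIrr_apply]
    have hd : charDegree (DegreeTools.Rationality.galIrr σ Q.K.b : G → ℂ) = charDegree (Q.K.b : G → ℂ) := by
      have h := DegreeTools.Rationality.galIrr_apply σ Q.K.b 1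
      rw [irr_one_eq, irr_one_eq, map_natCast, Nat.cast_inj] at h
      exact h
    rcases Q.K.mem_of_sec_ne one_ne_zero (χ := DegreeTools.Rationality.galIrr σ Q.K.b) (by
        rw [sec_of_trivial D hK, DegreeTools.Rationality.galIrr_apply, ← hχ, hχx 1 one_ne_zero, map_neg, map_one]
        norm_num) with h | h | h
    · rw [h, Q.deg_a] at hd
      omega
    · rw [h]
    · rw [Q.K.deg_Y _ h] at hd
      omega
  choose n hn using hint
  have hnabs : ∀ g, |n g| ≤ 2 * (t : ℤ) := fun g => by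
    have h := DegreeTools.norm_apply_le Q.K.b g
    rw [← hχ, hn, Complex.norm_intCast, hχ, show charDegree (Q.K.b : G → ℂ) = 2 * t by omega] at h
    exact_mod_cast h
  have hnsq : ∀ g : G, ¬ p ∣ orderOf g → n (g * g) = n g * n g - 2 * t * n g + 2 * t := fun g hg => by
    have h := hsq g hg
    rw [hn, hn] at h
    exact_mod_cast h
  have hpow : ∀ g : G, ¬ p ∣ orderOf g → ¬ p ∣ orderOf (g * g) := fun g hg h =>
    hg (h.trans (sq g ▸ orderOf_pow_dvd 2))
  have hnonneg : ∀ g : G, ¬ p ∣ orderOf g → 0 ≤ n g := fun g hg => by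
    by_contra hc
    have h1 := (abs_le.1 (hnabs (g * g))).2
    rw [hnsq g hg] at h1
    have : 0 < n g * (n g - 2 * t) := mul_pos_of_neg_of_neg (by omega) (by omega)
    nlinarith
  have hval : ∀ g : G, ¬ p ∣ orderOf g → g ≠ 1 → n g = 0 ∨ n g = 1 := fun g hg hne => by
    have hlt : n g < 2 * t := lt_of_le_of_ne (abs_le.1 (hnabs g)).2 fun h => hne (B.faithful g (by
      rw [hζreg g hg, hdC, hn, h]
      push_cast
      ring))
    refine zero_or_one_of_relation (by omega) (hnonneg g hg) hlt ?_ (hnsq g hg ▸ hnonneg _ (hpow g hg))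
    have h := re_sub_sq_le (isCharacter_irr Q.K.b) g
    rw [← hχ, hχ1, hn g, hn (g * g), hnsq g hg] at h
    simp only [Complex.sub_re, Complex.mul_re, Complex.intCast_re, Complex.intCast_im, Complex.natCast_re,
      Complex.natCast_im, Complex.re_ofNat, Complex.im_ofNat] at h
    push_cast at h
    have h' : ((n g * (2 * t - n g) : ℤ) : ℝ) ≤ ((4 * (2 * t - n g) : ℤ) : ℝ) := by push_cast; linarith
    exact_mod_cast h'
  -- the sum of the cube minus the character
  set F : G → ℂ := fun g => χ g * χ g * χ g - χ g with hF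
  have hF0 : ∀ g : G, g ≠ 1 → F g = 0 := fun g hne => by
    by_cases hg : p ∣ orderOf g
    · obtain ⟨u, k, v, hk, hu⟩ := D.exists_conj_el hg
      have h1 : χ g = -1 := by
        rw [hχ, ← irr_conj_apply Q.K.b g u, hu, D.coe_el, show (v : G) = 1 from Subgroup.mem_bot.1 (hK ▸ v.2), mul_one]
        rw [← hχ]; exact hχx k hk
      simp only [hF, h1]; norm_num
    · rcases hval g hg hne with h | h <;> simp [hF, hn, h]
  have hFsum : ∑ g, F g = (2 * (t : ℂ)) * (2 * t) * (2 * t) - 2 * t := by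
    rw [Finset.sum_eq_single (1 : G) (fun g _ hg => hF0 g hg) (fun h => absurd (Finset.mem_univ _) h)]
    simp only [hF, hχ1]
  have hone : ∑ g, χ g = 0 := hχ ▸ DegreeTools.sum_eq_zero Q.K.b fun h => Q.K.hab (Q.a_eq.trans h.symm)
  obtain ⟨c, hc⟩ := IsCharacter.classInner_nat (IsCharacter.mul (isCharacter_irr Q.K.b) (isCharacter_irr Q.K.b))
    (isCharacter_irr Q.K.b)
  rw [← hχ] at hc
  have hcount : c * Nat.card G = (2 * t + 1) * (2 * t) * (2 * t - 1) := by
    rw [Cfsg.classInner, Finset.sum_congr rfl (g := fun g => F g + χ g) fun g _ => by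
      show χ g * χ g * conj (χ g) = _
      simp only [hF, hn g, map_intCast, sub_add_cancel],
      Finset.sum_add_distrib, hone, add_zero, hFsum, inv_mul_eq_iff_eq_mul₀ Char.card_ne_zero] at hc
    have h : ((c * Nat.card G : ℕ) : ℂ) = (((2 * t + 1) * (2 * t) * (2 * t - 1) : ℕ) : ℂ) := by
      rw [Nat.cast_mul, Nat.cast_mul, Nat.cast_mul, Nat.cast_sub (by omega)]
      push_cast
      linear_combination -hc
    exact_mod_cast h
  have hbig : (2 * t) ^ 2 + t * Q.K.e ^ 2 ≤ Nat.card G := by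
    rw [← DegreeTools.sum_deg_sq (G := G)]
    refine le_trans ?_ (Finset.sum_le_sum_of_subset (Finset.subset_univ (insert Q.K.b Q.K.Y)))
    rw [Finset.sum_insert Q.K.b_notMem, show charDegree (Q.K.b : G → ℂ) = 2 * t by omega,
      Finset.sum_congr rfl fun φ hφ => by rw [Q.K.deg_Y φ hφ], Finset.sum_const, smul_eq_mul,
      show Q.K.Y.card = t by have := Q.K.card_Y; omega]
  rw [show Q.K.e = 2 * t - 1 by omega] at hbig
  obtain ⟨s, rfl⟩ : ∃ s, t = s + 1 := ⟨t - 1, by omega⟩
  simp only [show 2 * (s + 1) - 1 = 2 * s + 1 by omega] at hbig hcount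
  rcases Nat.lt_trichotomy c 1 with h | h | h
  · obtain rfl : c = 0 := by omega
    rw [zero_mul] at hcount
    exact absurd hcount (by positivity)
  · subst h
    rw [one_mul] at hcount
    rw [hcount, ht, show 2 * (s + 1) + 1 - 1 = 2 * (s + 1) by omega,
      show 2 * (s + 1) + 1 - 2 = 2 * s + 1 by omega]
  · exfalso
    have h2 : 2 * Nat.card G ≤ c * Nat.card G := Nat.mul_le_mul_right _ h
    nlinarith

/-- The classification of the perfect case with trivial centre. -/
theorem Base.classify (B : Base D ζ θ y) (hZ : Subgroup.center G = ⊥) (hperf : commutator G = ⊤) :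
    ∃ (a : ℕ) (F : Type) (_ : Field F) (_ : Fintype F), p = 2 ^ a + 1 ∧ Fintype.card F = 2 ^ a ∧
      Nonempty (G ≃* Matrix.SpecialLinearGroup (Fin 2) F) := by
  obtain ⟨hord, hK⟩ := B.order hZ
  have hp7 := B.seven_le
  obtain ⟨t, ht⟩ := hp.out.odd_of_ne_two (show p ≠ 2 by omega)
  obtain ⟨s, rfl⟩ : ∃ s, t = s + 1 := ⟨t - 1, by omega⟩
  have hidx : (nrm P).index = 1 + s * p := by
    have hN : Nat.card (nrm P) = 2 * p := by
      rw [D.card_nrm, B.range, D.card_cent, hK, Subgroup.card_bot, mul_one]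
    have h := Subgroup.card_mul_index (nrm P)
    rw [hN, hord] at h
    rw [show p - 1 = 2 * (s + 1) by omega, show p - 2 = 2 * s + 1 by omega] at h
    refine Nat.eq_of_mul_eq_mul_left (show 0 < 2 * p by omega) (h.trans ?_)
    rw [ht]
    ring
  have hfew : 2 * Nat.card (Sylow p G) < (p + 1) * (p + 2) := by
    rw [P.card_eq_index_normalizer.trans hidx, ht]
    nlinarith
  rcases FewSylow.classification_of_notRep hperf D hK hidx (FewSylow.notRep_of_few hidx hfew) with
    ⟨F, i1, i2, hF, -, ⟨e⟩⟩ | ⟨m, F, i1, i2, hF, hpm, -, ⟨e⟩⟩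
  · exfalso
    have h := FewSylow.card_psl_two (F := F)
    rw [hF, ← Nat.card_congr e.toEquiv, hord] at h
    have hg : Nat.gcd 2 (p - 1) = 2 := Nat.gcd_eq_left (by omega)
    rw [hg, show p - 1 = 2 * (s + 1) by omega, show p - 2 = 2 * s + 1 by omega] at h
    have h' : (p * (2 * (s + 1))) * (2 * (2 * s + 1)) = (p * (2 * (s + 1))) * (p + 1) := by linarith
    have := Nat.eq_of_mul_eq_mul_left (Nat.mul_pos (by omega) (by omega)) h'
    omega
  · have hev : Even (Fintype.card F) := by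
      rw [hF]
      refine Nat.even_pow.2 ⟨even_two, ?_⟩
      rintro rfl
      simp at hpm
      omega
    obtain ⟨e'⟩ := FewSylow.nonempty_sl_equiv_psl hev
    exact ⟨m, F, i1, i2, hpm, hF, ⟨e.trans e'⟩⟩

end CfsgLib.Char.DegPMinusTwo
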