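import Cfsg.Agent.Lib.Char.DegPMinusTwo.Structure
import Cfsg.Agent.Lib.Char.DegPMinusTwo.Order

/-!
# A faithful character of degree `p - 2`
-/

set_option autoImplicit false

open scoped Classical

namespace CfsgLib.Char.DegPMinusTwo

open Cfsg CfsgLib CfsgLib.Blocks CfsgLib.Blocks.DefectOne

universe u

theorem classification {G : Type u} [Group G] [Finite G] {p : ℕ} [Fact p.Prime] (hp5 : 5 < p) (P : Sylow p G)
    (hP : Nat.card P = p) (hnn : ¬ (P : Subgroup G).Normal) (ζ : G → ℂ) (hζ : IsIrrCharacter G ζ)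
    (hfaith : ∀ g : G, ζ g = ζ 1 → g = 1) (hdeg : charDegree ζ = p - 2) :
    ∃ (a : ℕ) (F : Type) (_ : Field F) (_ : Fintype F), p = 2 ^ a + 1 ∧ Fintype.card F = 2 ^ a ∧
      Nonempty (G ≃* Matrix.SpecialLinearGroup (Fin 2) F × Subgroup.center G) := by
  haveI := Fintype.ofFinite G
  obtain ⟨D⟩ := exists_frame P hP
  obtain ⟨θ, y, B⟩ := exists_base D hp5 hnn ⟨ζ, hζ⟩ hfaith (by show charDegree ζ + 2 = p; omega)
  obtain ⟨H, ⟨e⟩, hperf, hZ, P', D', ζ', θ', y', B'⟩ := B.exists_reduced hnn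
  obtain ⟨a, F, i1, i2, hpa, hF, ⟨e'⟩⟩ := B'.classify hZ hperf
  exact ⟨a, F, i1, i2, hpa, hF, ⟨e.trans (e'.prodCongr (MulEquiv.refl _))⟩⟩

end CfsgLib.Char.DegPMinusTwo
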