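import Cfsg.Agent.Lib.Char.DadeGen
import Cfsg.Agent.Lib.Char.FS
import Cfsg.Agent.Lib.Char.Linear
import Cfsg.Agent.Lib.Char.Constituent
import Cfsg.Agent.Lib.Blocks.DefectOneSection

/-!
# Fixed spaces, the alternating square and a bound for the value at a square
-/

set_option autoImplicit false

open scoped ComplexConjugate Classical

namespace CfsgLib.Char.DegPMinusTwo

open Cfsg CfsgLib CfsgLib.Blocks CfsgLib.Blocks.DefectOne

universe u

variable {G : Type u} [Group G] [Fintype G] {p : ℕ} [hp : Fact p.Prime] {P : Sylow p G}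

/-- The value at an element inverting `x` is the trace on the fixed points of `x`. -/
theorem exists_fix_bound (D : Frame P) (hp2 : p ≠ 2) {φ : G → ℂ} (hφ : IsCharacter G φ) {y : G}
    (hy : y * D.x * y⁻¹ = D.x⁻¹) :
    ∃ w : ℕ, (p : ℂ) * w = φ 1 + ∑ a ∈ Finset.univ.erase (0 : ZMod p), φ (D.x ^ a.val) ∧
      ‖φ y‖ ≤ w ∧ (w = 1 → ‖φ y‖ = 1) := by
  have hyP : Subgroup.zpowers y ≤ Subgroup.normalizer ((P : Subgroup G) : Set G) := by
    refine Subgroup.zpowers_le.2 ?_
    rw [← D.zp]
    refine Subgroup.mem_normalizer_iff.2 fun u => ?_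
    have hconj : ∀ i : ℤ, y * D.x ^ i * y⁻¹ = D.x ^ (-i) := fun i => by rw [← conj_zpow, hy, inv_zpow']
    constructor
    · intro hu
      obtain ⟨i, rfl⟩ := Subgroup.mem_zpowers_iff.1 hu
      exact Subgroup.mem_zpowers_iff.2 ⟨-i, (hconj i).symm⟩
    · intro hu
      obtain ⟨i, hi⟩ := Subgroup.mem_zpowers_iff.1 hu
      refine Subgroup.mem_zpowers_iff.2 ⟨-i, ?_⟩
      have h := hconj (-i)
      rw [neg_neg, hi] at h
      exact mul_left_cancel (mul_right_cancel h)
  obtain ⟨d, ρ, hρ⟩ := Dade.isCharacter_avg hφ (Subgroup.zpowers y).subtype (P : Subgroup G)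
    (fun n u hu => (Subgroup.mem_normalizer_iff.1 (hyP n.2) u).1 hu)
  have hav : ∀ n : Subgroup.zpowers y, ρ.character n = (p : ℂ)⁻¹ * ∑ a : ZMod p, φ (D.x ^ a.val * (n : G)) := by
    intro n
    rw [hρ]
    show (Nat.card (P : Subgroup G) : ℂ)⁻¹ * _ = _
    rw [show Nat.card (P : Subgroup G) = p from D.card_P]
    refine congrArg _ ?_
    refine (Fintype.sum_bijective (fun a : ZMod p => (⟨D.x ^ a.val, pow_mem D.x_mem _⟩ : (P : Subgroup G))) ?_ _ _
      fun a => rfl).symm
    refine (Fintype.bijective_iff_injective_and_card _).2 ⟨fun a b e => D.xpow_inj (congrArg Subtype.val e), ?_⟩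
    rw [ZMod.card, ← Nat.card_eq_fintype_card, show Nat.card (P : Subgroup G) = p from D.card_P]
  have hp0 : (p : ℂ) ≠ 0 := Nat.cast_ne_zero.2 hp.out.ne_zero
  have h1 : ρ.character 1 = (d : ℂ) := by rw [Representation.char_one, Module.finrank_fin_fun]
  have hyv : ρ.character ⟨y, Subgroup.mem_zpowers y⟩ = φ y := by
    rw [hav]
    have hconst : ∀ a : ZMod p, φ (D.x ^ a.val * y) = φ y := by
      intro a
      have h2 : (2 : ZMod p) ≠ 0 := by
        intro h
        have h' : ((2 : ℕ) : ZMod p) = 0 := by exact_mod_cast h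
        have := (Nat.prime_dvd_prime_iff_eq hp.out Nat.prime_two).1 ((ZMod.natCast_eq_zero_iff 2 p).1 h')
        exact hp2 this
      set b : ZMod p := a * 2⁻¹ with hb
      have hc : y * (D.x ^ b.val)⁻¹ = D.x ^ b.val * y := by
        have h3 : y * D.x ^ b.val * y⁻¹ = (D.x ^ b.val)⁻¹ := by rw [← conj_pow, hy, inv_pow]
        calc y * (D.x ^ b.val)⁻¹ = (y * D.x ^ b.val * y⁻¹)⁻¹ * y := by group
          _ = _ := by rw [h3, inv_inv]
      refine IsClassFunction.apply_eq_of_isConj (IsCharacter.isClassFunction hφ)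
        (IsConj.symm (isConj_iff.2 ⟨D.x ^ b.val, ?_⟩))
      rw [mul_assoc, hc, ← mul_assoc, D.xpow_add]
      congr 3
      rw [hb, ← mul_add, ← two_mul, ← mul_assoc, mul_comm a 2, mul_assoc, ← mul_assoc 2, mul_comm 2 a,
        mul_assoc, mul_inv_cancel₀ h2, mul_one]
    simp only [hconst, Finset.sum_const, Finset.card_univ, ZMod.card, nsmul_eq_mul]
    rw [← mul_assoc, inv_mul_cancel₀ hp0, one_mul]
  refine ⟨d, ?_, ?_, fun hd => ?_⟩
  · rw [← h1, hav, ← mul_assoc, mul_inv_cancel₀ hp0, one_mul,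
      ← Finset.add_sum_erase _ _ (Finset.mem_univ (0 : ZMod p))]
    simp
  · rw [← hyv]
    refine (norm_char_le ρ _).trans ?_
    rw [Module.finrank_fin_fun]
  · obtain ⟨f, hf⟩ := exists_hom_of_apply_one_eq_one (isCharacter_of_rep ρ) (by rw [h1, hd, Nat.cast_one])
    rw [← hyv, hf]
    obtain ⟨k, hk, hk1⟩ := (isOfFinOrder_of_finite (⟨y, Subgroup.mem_zpowers y⟩ : Subgroup.zpowers y)).exists_pow_eq_one
    refine Complex.norm_eq_one_of_pow_eq_one (n := k) ?_ hk.ne'
    rw [← Units.val_pow_eq_pow_val, ← map_pow, hk1, map_one, Units.val_one]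

omit [Fintype G] hp in
/-- The alternating square. -/
theorem isCharacter_altSquare [Finite G] {φ : G → ℂ} (hφ : IsCharacter G φ) :
    IsCharacter G fun g => (φ g * φ g - φ (g * g)) / 2 := by
  obtain ⟨d, ρ, rfl⟩ := hφ
  let b := Pi.basisFun ℂ (Fin d)
  let M : G →* Matrix (Fin d) (Fin d) ℂ :=
    { toFun := fun g => LinearMap.toMatrix b b (ρ g)
      map_one' := by rw [map_one]; exact LinearMap.toMatrix_one b
      map_mul' := fun g h => by rw [map_mul]; exact LinearMap.toMatrix_mul b _ _ }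
  have hM : ∀ g, (M g).trace = ρ.character g := fun g => (LinearMap.trace_eq_matrix_trace ℂ b _).symm
  let τ : Representation ℂ G (Matrix (Fin d) (Fin d) ℂ) :=
    { toFun := fun g => (LinearMap.mulLeft ℂ (M g).transpose.transpose).comp (LinearMap.mulRight ℂ (M g).transpose)
      map_one' := LinearMap.ext fun X => by simp
      map_mul' := fun a b => LinearMap.ext fun X => by simp [mul_assoc] }
  let T : Module.End ℂ (Matrix (Fin d) (Fin d) ℂ) :=
    (Matrix.transposeLinearEquiv (Fin d) (Fin d) ℂ ℂ).toLinearMap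
  have hTT : T * T = 1 := LinearMap.ext fun X => by simp [T]
  have hcomm : ∀ g, τ g * T = T * τ g := fun g => LinearMap.ext fun X => by simp [T, τ, mul_assoc]
  set e : Module.End ℂ (Matrix (Fin d) (Fin d) ℂ) := (2 : ℂ)⁻¹ • (1 - T) with he
  have hee : e * e = e := by
    rw [he, smul_mul_smul_comm, sub_mul, mul_sub, mul_sub, one_mul, one_mul, mul_one, hTT]
    module
  have hce : ∀ g, τ g * e = e * τ g := fun g => by
    rw [he, mul_smul_comm, smul_mul_assoc, mul_sub, sub_mul, mul_one, one_mul, hcomm]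
  let W : Submodule ℂ (Matrix (Fin d) (Fin d) ℂ) := LinearMap.range e
  have hW : ∀ g x, x ∈ W → τ g x ∈ W := by
    rintro g _ ⟨x, rfl⟩
    exact ⟨τ g x, (DFunLike.congr_fun (hce g) x).symm⟩
  let σ : Representation ℂ G W :=
    { toFun := fun g => (τ g).restrict (hW g)
      map_one' := LinearMap.ext fun x => Subtype.ext (by simp)
      map_mul' := fun a b => LinearMap.ext fun x => Subtype.ext (by simp) }
  have hσ : ∀ g, σ.character g = (ρ.character g * ρ.character g - ρ.character (g * g)) / 2 := by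
    intro g
    let f : Matrix (Fin d) (Fin d) ℂ →ₗ[ℂ] W := (τ g * e).codRestrict W fun x => hW g _ ⟨x, rfl⟩
    have h1 : f ∘ₗ W.subtype = σ g := LinearMap.ext fun x => Subtype.ext (by
      obtain ⟨z, hz⟩ := x.2
      show τ g (e (x : Matrix (Fin d) (Fin d) ℂ)) = τ g (x : Matrix (Fin d) (Fin d) ℂ)
      rw [← hz, ← Module.End.mul_apply e e, hee])
    have h2 : W.subtype ∘ₗ f = τ g * e := LinearMap.ext fun x => rfl
    show LinearMap.trace ℂ W (σ g) = _
    have t1 : LinearMap.trace ℂ _ (τ g) = (M g).trace * (M g).trace := by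
      have h := trace_transpose_mul_mul (M g).transpose
      rw [Matrix.trace_transpose] at h
      exact h
    have t2 : LinearMap.trace ℂ _ (τ g * T) = (M (g * g)).trace := by
      have h := trace_swap_mul_mul (M g).transpose
      rw [← Matrix.transpose_mul, Matrix.trace_transpose, ← map_mul M] at h
      exact h
    rw [← h1, LinearMap.trace_comp_comm', h2, he, mul_smul_comm, mul_sub, mul_one, map_smul, map_sub, t1, t2, hM, hM,
      smul_eq_mul]
    ring
  have h := isCharacter_of_rep σ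
  rwa [show σ.character = fun g => (ρ.character g * ρ.character g - ρ.character (g * g)) / 2 from funext hσ] at h

omit hp in
/-- The defect at a square is at most four times the defect. -/
theorem re_sub_sq_le {φ : G → ℂ} (hφ : IsCharacter G φ) (g : G) :
    (φ 1 - φ (g * g)).re ≤ 4 * (φ 1 - φ g).re := by
  set K := Subgroup.zpowers g
  set g' : K := ⟨g, Subgroup.mem_zpowers g⟩
  have hcom : ∀ a b : K, a * b = b * a := fun a b => by
    obtain ⟨i, hi⟩ := Subgroup.mem_zpowers_iff.1 a.2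
    obtain ⟨j, hj⟩ := Subgroup.mem_zpowers_iff.1 b.2
    exact Subtype.ext (by simp only [Subgroup.coe_mul, ← hi, ← hj, ← zpow_add, add_comm])
  obtain ⟨m, -, hexp⟩ := IsCharacter.exists_multiplicity (IsCharacter.restrict hφ K)
  have e1 : φ 1 = ∑ μ : IrrCharacter K, (m μ : ℂ) * (μ : K → ℂ) 1 := hexp 1
  have e2 : φ g = ∑ μ : IrrCharacter K, (m μ : ℂ) * (μ : K → ℂ) g' := hexp g'
  have e3 : φ (g * g) = ∑ μ : IrrCharacter K, (m μ : ℂ) * (μ : K → ℂ) (g' * g') := hexp (g' * g')
  rw [e1, e2, e3, ← Finset.sum_sub_distrib, ← Finset.sum_sub_distrib, Complex.re_sum, Complex.re_sum, Finset.mul_sum]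
  refine Finset.sum_le_sum fun μ _ => ?_
  obtain ⟨f, hf⟩ := exists_hom_of_apply_one_eq_one (isCharacter_irr μ) (apply_one_eq_one_of_comm hcom μ.2)
  simp only [hf, map_one, map_mul, Units.val_one, Units.val_mul]
  obtain ⟨k, hk, hk1⟩ := (isOfFinOrder_of_finite g').exists_pow_eq_one
  have hn : ‖(f g' : ℂ)‖ = 1 := Complex.norm_eq_one_of_pow_eq_one (n := k)
    (by rw [← Units.val_pow_eq_pow_val, ← map_pow, hk1, map_one, Units.val_one]) hk.ne'
  have hsq : (f g' : ℂ).re * (f g' : ℂ).re + (f g' : ℂ).im * (f g' : ℂ).im = 1 := by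
    have h := Complex.normSq_apply (f g' : ℂ)
    rw [Complex.normSq_eq_norm_sq, hn, one_pow] at h
    exact h.symm
  simp only [Complex.sub_re, Complex.mul_re, Complex.mul_im, Complex.natCast_re, Complex.natCast_im, Complex.one_re,
    Complex.one_im, zero_mul, mul_zero, sub_zero]
  have hm : (0 : ℝ) ≤ m μ := Nat.cast_nonneg _
  nlinarith [mul_nonneg hm (mul_self_nonneg (1 - (f g' : ℂ).re))]

end CfsgLib.Char.DegPMinusTwo
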