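import Cfsg.Agent.Lib.Char.DegPMinusTwo.Setup
import Cfsg.Agent.Lib.Blocks.DefectOneGalois

/-!
# A faithful character of degree `p - 2`: the blocks over linear characters of the centre

Such a block has two nonexceptional and `(p - 1) / 2` exceptional characters.
-/

set_option autoImplicit false

open scoped ComplexConjugate Classical

namespace CfsgLib.Char.DegPMinusTwo

open Cfsg CfsgLib CfsgLib.Blocks CfsgLib.Blocks.DefectOne CfsgLib.CharDeep.ExactP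

universe u

variable {G : Type u} [Group G] [Fintype G] {p : ℕ} [hp : Fact p.Prime] {P : Sylow p G} {D : Frame P}

/-- The characters that do not vanish on the sections of `μ`. -/
structure Blk (D : Frame P) (μ : IrrCharacter D.K0) where
  a : IrrCharacter G
  b : IrrCharacter G
  sa : ℤ
  sb : ℤ
  Y : Finset (IrrCharacter G)
  A : ℤ
  e : ℕ
  hab : a ≠ b
  a_notMem : a ∉ Y
  b_notMem : b ∉ Y
  card_Y : 2 * Y.card = p - 1
  sgn_a : sa = 1 ∨ sa = -1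
  sgn_b : sb = 1 ∨ sb = -1
  sgn_A : A = 1 ∨ A = -1
  sec_a : ∀ k : ZMod p, k ≠ 0 → D.sec μ a k = sa
  sec_b : ∀ k : ZMod p, k ≠ 0 → D.sec μ b k = sb
  mod_a : (charDegree (a : G → ℂ) : ℤ) ≡ sa [ZMOD p]
  mod_b : (charDegree (b : G → ℂ) : ℤ) ≡ sb [ZMOD p]
  deg_Y : ∀ η ∈ Y, charDegree (η : G → ℂ) = e
  mod_Y : (e : ℤ) ≡ -2 * A [ZMOD p]
  sum_Y_sec : ∀ k : ZMod p, k ≠ 0 → ∑ η ∈ Y, D.sec μ η k = A
  sum_x_Y : ∀ η ∈ Y, ∑ k ∈ Finset.univ.erase (0 : ZMod p), (η : G → ℂ) (D.x ^ k.val) = 2 * (A : ℂ)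
  val : ∀ χ : IrrCharacter G, χ = a ∨ χ = b ∨ χ ∈ Y → ∀ k : ZMod p, k ≠ 0 → ∀ v : D.K0,
    (χ : G → ℂ) (D.el k v : G) = D.sec μ χ k * (μ : D.K0 → ℂ) v
  out : ∀ χ : IrrCharacter G, χ ≠ a → χ ≠ b → χ ∉ Y → ∀ k : ZMod p, k ≠ 0 → D.sec μ χ k = 0
  agree : ∀ η ∈ Y, ∀ η' ∈ Y, ∀ g : G, ¬ p ∣ orderOf g → (η : G → ℂ) g = (η' : G → ℂ) g
  rel : ∀ η ∈ Y, ∀ g : G, ¬ p ∣ orderOf g →
    (sa : ℂ) * (a : G → ℂ) g + (sb : ℂ) * (b : G → ℂ) g + (A : ℂ) * (η : G → ℂ) g = 0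

/-- Exchanging the two nonexceptional characters. -/
def Blk.swap {μ : IrrCharacter D.K0} (K : Blk D μ) : Blk D μ where
  a := K.b
  b := K.a
  sa := K.sb
  sb := K.sa
  Y := K.Y
  A := K.A
  e := K.e
  hab := K.hab.symm
  a_notMem := K.b_notMem
  b_notMem := K.a_notMem
  card_Y := K.card_Y
  sgn_a := K.sgn_b
  sgn_b := K.sgn_a
  sgn_A := K.sgn_A
  sec_a := K.sec_b
  sec_b := K.sec_a
  mod_a := K.mod_b
  mod_b := K.mod_a
  deg_Y := K.deg_Y
  mod_Y := K.mod_Y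
  sum_Y_sec := K.sum_Y_sec
  sum_x_Y := K.sum_x_Y
  val := fun χ h => K.val χ (by tauto)
  out := fun χ h1 h2 => K.out χ h2 h1
  agree := K.agree
  rel := fun η hη g hg => by linear_combination K.rel η hη g hg

theorem exists_blk (hp7 : 7 ≤ p) (hq : Nat.card D.act.range = 2) (hK : D.K0 ≤ Subgroup.center G)
    (μ : IrrCharacter D.K0) (hμ : fdeg D μ = 1) : Nonempty (Blk D μ) := by
  obtain ⟨M, hM⟩ := exists_isPModular hp.out
  obtain ⟨B, hind⟩ := D.exists_induced hM μ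
  obtain ⟨T⟩ := exists_shape D hM hind
  have horb : D.orb μ = {μ} := Finset.eq_singleton_iff_unique_mem.2 ⟨D.self_mem_orb μ, fun μ' hμ' => by
    obtain ⟨g, rfl⟩ := D.mem_orb.1 hμ'
    refine Subtype.ext (funext fun v => ?_)
    rw [D.tw_apply]
    refine congrArg (μ : D.K0 → ℂ) (Subtype.ext ?_)
    rw [D.coe_conjK, Subgroup.mem_center_iff.1 (hK v.2) (g : G), mul_inv_cancel_right]⟩
  have hcard : Nat.card (D.autE μ) = 2 := by
    have h := D.card_orb_mul μ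
    rwa [horb, Finset.card_singleton, one_mul, hq] at h
  have hμd : charDegree (μ : D.K0 → ℂ) = 1 := hμ
  have hcY : 2 * T.Y.card = p - 1 := hcard ▸ T.card_Y
  obtain ⟨a, b, hab, hX⟩ := Finset.card_eq_two.1 (T.card_X.trans hcard)
  have ha : a ∈ T.X := by rw [hX]; exact Finset.mem_insert_self _ _
  have hb : b ∈ T.X := by rw [hX]; exact Finset.mem_insert_of_mem (Finset.mem_singleton_self _)
  have hmem : ∀ χ, χ ∈ B ↔ χ = a ∨ χ = b ∨ χ ∈ T.Y := fun χ => by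
    rw [T.mem_iff, hX, Finset.mem_insert, Finset.mem_singleton, or_assoc]
  have hval : ∀ χ ∈ B, ∀ k : ZMod p, k ≠ 0 → ∀ v : D.K0,
      (χ : G → ℂ) (D.el k v : G) = D.sec μ χ k * (μ : D.K0 → ℂ) v := fun χ hχ k hk v => by
    rw [D.apply_el_orb hM hind hχ hk, horb, Finset.sum_singleton]
  have hvalx : ∀ χ ∈ B, ∀ k : ZMod p, k ≠ 0 → (χ : G → ℂ) (D.x ^ k.val) = D.sec μ χ k := fun χ hχ k hk => by
    have h := hval χ hχ k hk 1
    rwa [D.coe_el, OneMemClass.coe_one, mul_one, irr_one_eq μ, hμd, Nat.cast_one, mul_one] at h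
  have h1reg : ¬ p ∣ orderOf (1 : G) := by rw [orderOf_one]; exact hp.out.not_dvd_one
  obtain ⟨η₀, hη₀⟩ : ∃ η, η ∈ T.Y := ⟨T.ζ 1, (T.mem_Y _).2 ⟨1, rfl⟩⟩
  have hout : ∀ χ : IrrCharacter G, χ ∉ T.X → χ ∉ T.Y → ∀ k : ZMod p, k ≠ 0 → D.sec μ χ k = 0 :=
    fun χ h1 h2 k hk => D.sec_eq_zero_of_notMem hM hind (fun h => ((T.mem_iff χ).1 h).elim h1 h2) hk
  have hsumY : ∀ k : ZMod p, k ≠ 0 → ∑ η ∈ T.Y, D.sec μ η k = (T.A : ℂ) := by
    intro k hk
    have h2 := D.sum_sec_mul_apply μ hk h1reg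
    rw [← Finset.sum_subset (Finset.subset_univ (T.X ∪ T.Y)) fun χ _ hχ => by
        rw [hout χ (fun h => hχ (Finset.mem_union_left _ h)) (fun h => hχ (Finset.mem_union_right _ h)) k hk, zero_mul],
      Finset.sum_union T.disj,
      Finset.sum_congr rfl (s₁ := T.X) fun χ hχ => by rw [T.sec_X χ hχ k hk],
      Finset.sum_congr rfl (s₁ := T.Y) (g := fun η' => D.sec μ η' k * (η₀ : G → ℂ) 1) fun η' hη' => by
        rw [T.agree η' hη' η₀ hη₀ 1 h1reg],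
      ← Finset.sum_mul] at h2
    refine mul_right_cancel₀ (irr_one_ne_zero η₀) ?_
    linear_combination h2 - T.rel η₀ hη₀ 1 h1reg
  have hshift : ∀ k, ∀ a : ZMod p, a ≠ 0 → D.sec μ (T.ζ k) a = D.sec μ (T.ζ 1) ((k : ZMod p) * a) := by
    intro k a ha
    rw [T.sec_Y k a ha, T.sec_Y 1 _ (mul_ne_zero (Units.ne_zero k) ha)]
    congr 2
    refine Finset.sum_bij' (fun l _ => k⁻¹ * l) (fun l _ => k * l) (fun l hl => ?_) (fun l hl => ?_)
      (fun l _ => mul_inv_cancel_left k l) (fun l _ => inv_mul_cancel_left k l) fun l _ => ?_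
    · simp only [Finset.mem_filter, Finset.mem_univ, true_and] at hl ⊢
      have h := (T.ζ_iff k l).1 hl.symm
      exact ((T.ζ_iff 1 _).2 (by rwa [inv_one, one_mul])).symm
    · simp only [Finset.mem_filter, Finset.mem_univ, true_and] at hl ⊢
      have h := (T.ζ_iff 1 l).1 hl.symm
      rw [inv_one, one_mul] at h
      exact ((T.ζ_iff k _).2 (by rwa [inv_mul_cancel_left])).symm
    · congr 1
      rw [show ((k⁻¹ * l : (ZMod p)ˣ) : ZMod p) * ((k : ZMod p) * a) = ((k⁻¹ * l * k : (ZMod p)ˣ) : ZMod p) * a by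
        simp only [Units.val_mul, mul_assoc], mul_comm (k⁻¹ * l) k, mul_inv_cancel_left]
  have hsum1 : ∀ η ∈ T.Y, ∑ a ∈ Finset.univ.erase (0 : ZMod p), D.sec μ η a
      = ∑ a ∈ Finset.univ.erase (0 : ZMod p), D.sec μ (T.ζ 1) a := by
    intro η hη
    obtain ⟨k, rfl⟩ := (T.mem_Y η).1 hη
    refine Finset.sum_equiv (Units.mulLeft k) (fun a => ?_) fun a ha => ?_
    · simp
    · rw [hshift k a (Finset.ne_of_mem_erase ha)]; rfl
  have hsumx : ∀ η ∈ T.Y,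
      ∑ k ∈ Finset.univ.erase (0 : ZMod p), (η : G → ℂ) (D.x ^ k.val) = 2 * (T.A : ℂ) := by
    intro η hη
    have hη' : η ∈ B := (T.mem_iff η).2 (Or.inr hη)
    rw [Finset.sum_congr rfl fun k hk => hvalx η hη' k (Finset.ne_of_mem_erase hk)]
    refine mul_left_cancel₀ (show (T.Y.card : ℂ) ≠ 0 from Nat.cast_ne_zero.2 (Finset.card_ne_zero.2 ⟨η, hη⟩)) ?_
    rw [hsum1 η hη, ← nsmul_eq_mul, ← Finset.sum_const, ← Finset.sum_congr rfl hsum1, Finset.sum_comm,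
      Finset.sum_congr rfl fun k hk => hsumY k (Finset.ne_of_mem_erase hk), Finset.sum_const,
      Finset.card_erase_of_mem (Finset.mem_univ _), Finset.card_univ, ZMod.card, nsmul_eq_mul, ← hcY]
    push_cast
    ring
  have hmodX : ∀ χ ∈ T.X, (charDegree (χ : G → ℂ) : ℤ) ≡ T.sgn χ [ZMOD p] := fun χ hχ => by
    have h := T.deg_X χ hχ
    rwa [horb, Finset.card_singleton, one_mul, hμd, Nat.cast_one, mul_one] at h
  have hdegY : ∀ η ∈ T.Y, charDegree (η : G → ℂ) = charDegree (η₀ : G → ℂ) := fun η hη => by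
    have h := T.agree η hη η₀ hη₀ 1 h1reg
    simp only [irr_one_eq] at h
    exact_mod_cast h
  refine ⟨⟨a, b, T.sgn a, T.sgn b, T.Y, T.A, charDegree (η₀ : G → ℂ), hab,
    fun h => Finset.disjoint_left.1 T.disj ha h, fun h => Finset.disjoint_left.1 T.disj hb h, hcY,
    T.sgn_X a ha, T.sgn_X b hb, T.sgn_A, T.sec_X a ha, T.sec_X b hb, hmodX a ha, hmodX b hb, hdegY, ?_, hsumY,
    hsumx, fun χ hχ => hval χ ((hmem χ).2 hχ), fun χ h1 h2 h3 => hout χ ?_ h3, T.agree, fun η hη g hg => ?_⟩⟩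
  · have h := T.deg_Y η₀ hη₀
    rw [hq, hμd] at h
    refine h.trans (Int.modEq_iff_dvd.2 ⟨0, ?_⟩)
    push_cast
    ring
  · rw [hX, Finset.mem_insert, Finset.mem_singleton]
    tauto
  · have h := T.rel η hη g hg
    rw [hX, Finset.sum_pair hab] at h
    exact h

namespace Blk

variable {μ : IrrCharacter D.K0} (K : Blk D μ)

include K in
theorem three_le_card (hp7 : 7 ≤ p) : 3 ≤ K.Y.card := by have := K.card_Y; omega

include K in
theorem mem_of_sec_ne {χ : IrrCharacter G} {k : ZMod p} (hk : k ≠ 0) (h : D.sec μ χ k ≠ 0) :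
    χ = K.a ∨ χ = K.b ∨ χ ∈ K.Y := by
  by_contra hc
  push Not at hc
  exact h (K.out χ hc.1 hc.2.1 hc.2.2 k hk)

theorem val_x (hμ : fdeg D μ = 1) {χ : IrrCharacter G} (hχ : χ = K.a ∨ χ = K.b ∨ χ ∈ K.Y) {k : ZMod p}
    (hk : k ≠ 0) : (χ : G → ℂ) (D.x ^ k.val) = D.sec μ χ k := by
  have h := K.val χ hχ k hk 1
  rwa [D.coe_el, OneMemClass.coe_one, mul_one, irr_one_eq μ, show charDegree (μ : D.K0 → ℂ) = 1 from hμ,
    Nat.cast_one, mul_one] at h

theorem sum_x_a (hμ : fdeg D μ = 1) :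
    ∑ k ∈ Finset.univ.erase (0 : ZMod p), (K.a : G → ℂ) (D.x ^ k.val) = ((p : ℂ) - 1) * K.sa := by
  rw [Finset.sum_congr rfl fun k hk => (K.val_x hμ (Or.inl rfl) (Finset.ne_of_mem_erase hk)).trans
      (K.sec_a k (Finset.ne_of_mem_erase hk)),
    Finset.sum_const, Finset.card_erase_of_mem (Finset.mem_univ _), Finset.card_univ, ZMod.card, nsmul_eq_mul,
    Nat.cast_sub hp.out.one_le, Nat.cast_one]

theorem sum_x_b (hμ : fdeg D μ = 1) :
    ∑ k ∈ Finset.univ.erase (0 : ZMod p), (K.b : G → ℂ) (D.x ^ k.val) = ((p : ℂ) - 1) * K.sb :=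
  K.swap.sum_x_a hμ

theorem rel_one {η : IrrCharacter G} (hη : η ∈ K.Y) :
    K.sa * (charDegree (K.a : G → ℂ) : ℤ) + K.sb * (charDegree (K.b : G → ℂ) : ℤ) + K.A * K.e = 0 := by
  have h := K.rel η hη 1 (by rw [orderOf_one]; exact hp.out.not_dvd_one)
  simp only [irr_one_eq, K.deg_Y η hη] at h
  exact_mod_cast h

end Blk

end CfsgLib.Char.DegPMinusTwo
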