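import Cfsg.Agent.Lib.Char.DegPMinusTwo.Pairs
import Cfsg.Agent.Lib.Char.CliffordAbelian

/-!
# A faithful character of degree `p - 2`: it extends the character of the centre

Comparing the two sums shows that the block of `ζ` contains a linear character.
-/

set_option autoImplicit false

open scoped ComplexConjugate Classical

namespace CfsgLib.Char.DegPMinusTwo

open Cfsg CfsgLib CfsgLib.Blocks CfsgLib.Blocks.DefectOne CfsgLib.CharDeep.ExactP

universe u

/-- The comparison of the two bounds. -/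
theorem bound_absurd {p v u f e N : ℝ} (hp : 7 ≤ p) (hv : 1 ≤ v) (hN : 0 ≤ N)
    (hmain : N ^ 2 * ((p * v + 1) * (p * v + p - 1) * (p - 2)) ≤ (p - 1) ^ 2 * (2 * v + 1) ^ 2 * (f * e))
    (hcase : (f = 1 ∧ e = 2 ∧ N = 2) ∨
      (1 ≤ u ∧ (p - 1) * u ≤ N ∧ f = p * u - 1 ∧ e = p * u - 2) ∨
      (11 ≤ p ∧ 1 ≤ u ∧ (p - 1) * u ≤ N ∧ f = p * u + 1 ∧ e = p * u + 2) ∨
      (p = 7 ∧ f = 8 ∧ e = 9 ∧ 7 ≤ N)) : False := by
  have hvv : (2 * v + 1) ^ 2 * 2 ≤ 9 * (v * (v + 1)) := by nlinarith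
  have hvv0 : 0 < v * (v + 1) := by positivity
  have hden : p ^ 2 * (v * (v + 1)) * (p - 2) ≤ (p * v + 1) * (p * v + p - 1) * (p - 2) :=
    mul_le_mul_of_nonneg_right (by nlinarith) (by linarith)
  have hlow : N ^ 2 * (p ^ 2 * (v * (v + 1)) * (p - 2)) ≤ (p - 1) ^ 2 * (2 * v + 1) ^ 2 * (f * e) :=
    le_trans (mul_le_mul_of_nonneg_left hden (sq_nonneg N)) hmain
  rcases hcase with ⟨rfl, rfl, rfl⟩ | ⟨hu, hNu, rfl, rfl⟩ | ⟨hp11, hu, hNu, rfl, rfl⟩ | ⟨rfl, rfl, rfl, hN7⟩
  · have h1 : (p - 1) ^ 2 * (2 * v + 1) ^ 2 * (1 * 2) ≤ p ^ 2 * (9 * (v * (v + 1))) := by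
      have : (p - 1) ^ 2 ≤ p ^ 2 := by nlinarith
      nlinarith [mul_le_mul this hvv (by positivity) (by positivity)]
    have h2 : p ^ 2 * (v * (v + 1)) * 20 ≤ (2 : ℝ) ^ 2 * (p ^ 2 * (v * (v + 1)) * (p - 2)) := by
      have : 0 ≤ p ^ 2 * (v * (v + 1)) := by positivity
      nlinarith
    have : 0 < p ^ 2 * (v * (v + 1)) := by positivity
    nlinarith
  · have hN2 : (p - 1) ^ 2 * u ^ 2 ≤ N ^ 2 := by
      rw [← mul_pow]
      exact pow_le_pow_left₀ (by nlinarith) hNu 2
    have h2u : (2 : ℝ) ≤ p * u := le_trans (by linarith) (le_mul_of_one_le_right (by linarith) hu)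
    have hfe : (p * u - 1) * (p * u - 2) ≤ p ^ 2 * u ^ 2 := by nlinarith
    have hX : 0 < (p - 1) ^ 2 * u ^ 2 * p ^ 2 := by
      have : 0 < p - 1 := by linarith
      positivity
    have h1 : (p - 1) ^ 2 * u ^ 2 * p ^ 2 * (v * (v + 1) * (p - 2)) ≤ (p - 1) ^ 2 * u ^ 2 * p ^ 2 * (2 * v + 1) ^ 2 := by
      calc (p - 1) ^ 2 * u ^ 2 * p ^ 2 * (v * (v + 1) * (p - 2))
          = (p - 1) ^ 2 * u ^ 2 * (p ^ 2 * (v * (v + 1)) * (p - 2)) := by ring
        _ ≤ N ^ 2 * (p ^ 2 * (v * (v + 1)) * (p - 2)) := mul_le_mul_of_nonneg_right hN2 (by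
            have : 0 ≤ p - 2 := by linarith
            positivity)
        _ ≤ (p - 1) ^ 2 * (2 * v + 1) ^ 2 * ((p * u - 1) * (p * u - 2)) := hlow
        _ ≤ (p - 1) ^ 2 * (2 * v + 1) ^ 2 * (p ^ 2 * u ^ 2) := mul_le_mul_of_nonneg_left hfe (by positivity)
        _ = _ := by ring
    have h2 := le_of_mul_le_mul_left h1 hX
    nlinarith
  · have hN2 : (p - 1) ^ 2 * u ^ 2 ≤ N ^ 2 := by
      rw [← mul_pow]
      exact pow_le_pow_left₀ (by nlinarith) hNu 2
    have hfe : (p * u + 1) * (p * u + 2) ≤ (p + 1) * (p + 2) * u ^ 2 := by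
      nlinarith [mul_nonneg (show 0 ≤ u - 1 by linarith) (show 0 ≤ u by linarith)]
    have hX : 0 < (p - 1) ^ 2 * u ^ 2 := by
      have : 0 < p - 1 := by linarith
      positivity
    have h1 : (p - 1) ^ 2 * u ^ 2 * (p ^ 2 * (v * (v + 1)) * (p - 2))
        ≤ (p - 1) ^ 2 * u ^ 2 * ((p + 1) * (p + 2) * (2 * v + 1) ^ 2) := by
      calc (p - 1) ^ 2 * u ^ 2 * (p ^ 2 * (v * (v + 1)) * (p - 2))
          ≤ N ^ 2 * (p ^ 2 * (v * (v + 1)) * (p - 2)) := mul_le_mul_of_nonneg_right hN2 (by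
            have : 0 ≤ p - 2 := by linarith
            positivity)
        _ ≤ (p - 1) ^ 2 * (2 * v + 1) ^ 2 * ((p * u + 1) * (p * u + 2)) := hlow
        _ ≤ (p - 1) ^ 2 * (2 * v + 1) ^ 2 * ((p + 1) * (p + 2) * u ^ 2) := mul_le_mul_of_nonneg_left hfe (by positivity)
        _ = _ := by ring
    have h2 := le_of_mul_le_mul_left h1 hX
    have h3 : 2 * (p ^ 2 * (p - 2)) * (v * (v + 1)) ≤ 9 * ((p + 1) * (p + 2)) * (v * (v + 1)) := by
      have : 0 ≤ (p + 1) * (p + 2) := by positivity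
      nlinarith [mul_le_mul_of_nonneg_left hvv this]
    have h4 := le_of_mul_le_mul_right h3 hvv0
    nlinarith [mul_nonneg (show 0 ≤ p - 11 by linarith) (sq_nonneg p), mul_nonneg (show 0 ≤ p - 11 by linarith) (show 0 ≤ p by linarith)]
  · have hN2 : (49 : ℝ) ≤ N ^ 2 := by nlinarith
    have h1 : 49 * ((7 * v + 1) * (7 * v + 7 - 1) * (7 - 2)) ≤ ((7 : ℝ) - 1) ^ 2 * (2 * v + 1) ^ 2 * (8 * 9) :=
      le_trans (mul_le_mul_of_nonneg_right hN2 (by nlinarith)) hmain
    nlinarith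

variable {G : Type u} [Group G] [Fintype G] {p : ℕ} [hp : Fact p.Prime] {P : Sylow p G} {D : Frame P}
  {ζ : IrrCharacter G} {θ : IrrCharacter D.K0} {y : G}

theorem Base.sec_self (B : Base D ζ θ y) (k : ZMod p) : D.sec θ ζ k = (ζ : G → ℂ) (D.x ^ k.val) := by
  rw [Frame.sec, Frame.comp, show (fun v : D.K0 => (ζ : G → ℂ) (D.el k v : G))
    = (ζ : G → ℂ) (D.x ^ k.val) • (θ : D.K0 → ℂ) from funext fun v => by
      rw [B.val, Pi.smul_apply, smul_eq_mul, mul_comm], classInner_smul_left, classInner_irr_self θ.2, mul_one]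

theorem Base.exists_x_ne (B : Base D ζ θ y) : ∃ k : ZMod p, k ≠ 0 ∧ (ζ : G → ℂ) (D.x ^ k.val) ≠ 0 := by
  by_contra h
  push Not at h
  have h1 := B.sum_x
  rw [Finset.sum_eq_zero fun k hk => h k (Finset.ne_of_mem_erase hk)] at h1
  exact two_ne_zero h1.symm

theorem not_modEq_sign {p d : ℕ} (hp : 7 ≤ p) (hd : d + 2 = p) {s : ℤ} (hs : s = 1 ∨ s = -1) :
    ¬ (d : ℤ) ≡ s [ZMOD p] := by
  intro h
  obtain ⟨z, hz⟩ := Int.modEq_iff_dvd.1 h
  have h1 : (p : ℤ) ∣ s + 2 := ⟨z + 1, by have : (d : ℤ) + 2 = p := by exact_mod_cast hd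
                                          linear_combination hz + this⟩
  have := Int.le_of_dvd (by rcases hs with rfl | rfl <;> norm_num) h1
  omega

/-- The block of `ζ` with signs `1` and `-1`. -/
theorem Base.exists_theta_blk (B : Base D ζ θ y) :
    ∃ K : Blk D θ, ζ ∈ K.Y ∧ K.A = 1 ∧ K.sa = 1 ∧ K.sb = -1 := by
  have hp7 := B.seven_le
  obtain ⟨K⟩ := exists_blk hp7 B.range (by rw [B.K0_eq]) θ B.theta_one
  obtain ⟨k, hk, hne⟩ := B.exists_x_ne
  have hmem := K.mem_of_sec_ne hk (χ := ζ) (by rwa [B.sec_self])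
  have hY : ζ ∈ K.Y := by
    rcases hmem with h | h | h
    · have := K.mod_a
      rw [← h] at this
      exact absurd this (not_modEq_sign hp7 B.deg K.sgn_a)
    · have := K.mod_b
      rw [← h] at this
      exact absurd this (not_modEq_sign hp7 B.deg K.sgn_b)
    · exact h
  have hdp : (charDegree (ζ : G → ℂ) : ℤ) + 2 = p := by exact_mod_cast B.deg
  have hA : K.A = 1 := by
    refine K.sgn_A.resolve_right fun hA => ?_
    have h := K.mod_Y
    rw [← K.deg_Y ζ hY, hA] at h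
    obtain ⟨z, hz⟩ := Int.modEq_iff_dvd.1 h
    have h1 : (p : ℤ) ∣ 4 := ⟨z + 1, by linear_combination hz + hdp⟩
    have := Int.le_of_dvd (by norm_num) h1
    omega
  have hrel := K.rel_one hY
  rw [hA, one_mul, ← K.deg_Y ζ hY] at hrel
  have hbig : ∀ {χ : IrrCharacter G}, (charDegree (χ : G → ℂ) : ℤ) ≡ -1 [ZMOD p] →
      (p : ℤ) - 1 ≤ charDegree (χ : G → ℂ) := fun {χ} h => by
    obtain ⟨z, hz⟩ := Int.modEq_iff_dvd.1 h
    have h1 : (p : ℤ) ∣ charDegree (χ : G → ℂ) + 1 := ⟨-z, by linear_combination -hz⟩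
    have := Int.le_of_dvd (by omega) h1
    omega
  have ha0 := charDegree_pos K.a
  have hb0 := charDegree_pos K.b
  rcases K.sgn_a with ha | ha <;> rcases K.sgn_b with hb | hb <;> rw [ha, hb] at hrel
  · omega
  · exact ⟨K, hY, hA, ha, hb⟩
  · exact ⟨K.swap, hY, hA, hb, ha⟩
  · have h1 := hbig (ha ▸ K.mod_a)
    have h2 := hbig (hb ▸ K.mod_b)
    omega

set_option maxHeartbeats 1000000 in
/-- The block of `ζ` contains a linear character. -/
theorem Base.exists_linear (B : Base D ζ θ y) :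
    ∃ (Q : Principal D) (η : IrrCharacter G) (l : G →* ℂˣ), η ∈ Q.K.Y ∧
      (∀ v : D.K0, (l (v : G) : ℂ) = (θ : D.K0 → ℂ) v) ∧ charDegree (Q.K.b : G → ℂ) + 1 = p ∧ Q.K.sb = -1 ∧
      Q.K.A = 1 ∧ Q.K.e + 2 = p := by
  have hp7 := B.seven_le
  have hp2 : p ≠ 2 := by omega
  obtain ⟨K, hζ, hKA, hKa, hKb⟩ := B.exists_theta_blk
  obtain ⟨Q⟩ := B.exists_principal
  obtain ⟨η, hη⟩ : Q.K.Y.Nonempty := Finset.card_pos.1 (by have := Q.K.three_le_card hp7; omega)
  set f := charDegree (Q.K.b : G → ℂ) with hf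
  set e := Q.K.e with he
  set fa := charDegree (K.a : G → ℂ) with hfa
  set fb := charDegree (K.b : G → ℂ) with hfb
  set d := charDegree (ζ : G → ℂ) with hd
  have hdp : (d : ℂ) + 2 = (p : ℂ) := by exact_mod_cast B.deg
  have hrel := K.rel_one hζ
  rw [hKA, hKa, hKb, one_mul, one_mul, ← K.deg_Y ζ hζ, neg_one_mul] at hrel
  have hfb' : fb = fa + d := by omega
  -- the principal block
  have hrelQ := Q.K.rel_one hη
  rw [Q.sa_eq, Q.deg_a, Nat.cast_one, one_mul] at hrelQ
  have hf0 : 0 < f := charDegree_pos _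
  have he0 : 0 < e := by rw [he, ← Q.K.deg_Y η hη]; exact charDegree_pos _
  have hAσ : Q.K.A = -Q.K.sb := by
    rcases Q.K.sgn_b with hb | hb <;> rcases Q.K.sgn_A with hA | hA <;> rw [hb, hA] at hrelQ ⊢ <;> omega
  have hef : (e : ℤ) = f + Q.K.sb := by
    rcases Q.K.sgn_b with hb | hb <;> rw [hAσ, hb] at hrelQ <;> rw [hb] <;> omega
  -- fixed spaces
  obtain ⟨wa, hwa, hwa', -⟩ := exists_fix_bound D hp2 (isCharacter_irr K.a) B.inv
  rw [K.sum_x_a B.theta_one, hKa, Int.cast_one, mul_one, irr_one_eq, ← hfa] at hwa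
  have hwaZ : (p : ℤ) * wa = fa + ((p : ℤ) - 1) := by
    have h : ((p : ℕ) : ℂ) * wa + 1 = (fa : ℂ) + p := by linear_combination hwa
    have h' : p * wa + 1 = fa + p := by exact_mod_cast h
    omega
  have hfa0 : 0 < fa := charDegree_pos _
  have hwa1 : 1 ≤ wa := by
    by_contra h
    obtain rfl : wa = 0 := by omega
    rw [Nat.cast_zero, mul_zero] at hwaZ
    omega
  obtain ⟨wb, hwb, hwb', -⟩ := exists_fix_bound D hp2 (isCharacter_irr Q.K.b) B.inv
  rw [Q.sum_x_b, irr_one_eq, ← hf] at hwb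
  have hwbZ : (p : ℤ) * wb = f + ((p : ℤ) - 1) * Q.K.sb := by exact_mod_cast hwb
  -- the two sums
  set R := (ζ : G → ℂ) y with hR
  set s := (Q.K.b : G → ℂ) y with hs
  set s' := (K.a : G → ℂ) y with hs'
  have hby : (K.b : G → ℂ) y = s' + R := by
    have h := K.rel ζ hζ y B.regular_y
    rw [hKA, hKa, hKb] at h
    push_cast at h
    linear_combination -h
  have hry : (η : G → ℂ) y = (Q.K.sb : ℂ) + s := by
    have h := Q.K.rel η hη y B.regular_y
    rw [Q.sa_eq, Q.a_eq, hAσ, oneChar_apply] at h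
    push_cast at h
    rcases Q.K.sgn_b with hb | hb <;> rw [hb] at h ⊢ <;> push_cast at h ⊢
    · linear_combination -h
    · linear_combination h
  have hfbC : (fb : ℂ) = fa + d := by exact_mod_cast hfb'
  have hefC : (e : ℂ) = f + (Q.K.sb : ℂ) := by
    have h : ((e : ℤ) : ℂ) = (((f : ℤ) + Q.K.sb : ℤ) : ℂ) := by rw [hef]
    push_cast at h
    exact h
  have hfa0' : (fa : ℂ) ≠ 0 := Nat.cast_ne_zero.2 (by omega)
  have hfb0' : (fb : ℂ) ≠ 0 := Nat.cast_ne_zero.2 (by omega)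
  have hd0' : (d : ℂ) ≠ 0 := Nat.cast_ne_zero.2 (charDegree_pos ζ).ne'
  have hf0' : (f : ℂ) ≠ 0 := Nat.cast_ne_zero.2 hf0.ne'
  have he0' : (e : ℂ) ≠ 0 := Nat.cast_ne_zero.2 he0.ne'
  have hb1 : bracket K ζ y = ((d : ℂ) * s' - fa * R) ^ 2 / ((fa : ℂ) * fb * d) := by
    rw [bracket, ← K.deg_Y ζ hζ, hKa, hKb, hKA, hby]
    simp only [← hs', ← hR, ← hfa, ← hfb, ← hd]
    push_cast
    field_simp
    rw [hfbC]
    ring
  have hb2 : bracket Q.K η y = ((f : ℂ) - s) ^ 2 / ((f : ℂ) * e) := by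
    rw [bracket, Q.sa_eq, Q.deg_a, Q.a_eq, oneChar_apply, hAσ, hry]
    simp only [← hs, ← hf, ← he]
    push_cast
    field_simp
    rw [hefC]
    rcases Q.K.sgn_b with hb | hb <;> rw [hb] <;> push_cast <;> ring
  set E : ℂ := (Nat.card (Subgroup.centralizer ({y} : Set G)) : ℂ) *
        (Nat.card (Subgroup.centralizer ({y} : Set G)) : ℂ) * (pairCount y (D.el 1 ⟨y * y, B.sq_mem⟩ : G) : ℂ) with hE
  have hE0 : E ≠ 0 := mul_ne_zero (mul_ne_zero (Nat.cast_ne_zero.2 Nat.card_pos.ne')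
    (Nat.cast_ne_zero.2 Nat.card_pos.ne')) (Nat.cast_ne_zero.2 B.pairs_pos)
  have hC0 : (Nat.card D.K0 : ℂ) * (Nat.card G : ℂ) ≠ 0 :=
    mul_ne_zero (Nat.cast_ne_zero.2 Nat.card_pos.ne') (Nat.cast_ne_zero.2 Nat.card_pos.ne')
  have e1 := B.bracket_eq B.theta_one K hζ
  have e2 := B.bracket_eq (fdeg_θone D) Q.K hη
  rw [← hE] at e1 e2
  rw [θone_apply, one_mul] at e2
  have hθnorm : ‖(θ : D.K0 → ℂ) ⟨y * y, B.sq_mem⟩‖ = 1 := by
    obtain ⟨l, hl⟩ := exists_hom_of_apply_one_eq_one (isCharacter_irr θ) B.theta_one_apply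
    obtain ⟨k, hk, hk1⟩ := (isOfFinOrder_of_finite (⟨y * y, B.sq_mem⟩ : D.K0)).exists_pow_eq_one
    rw [hl]
    exact Complex.norm_eq_one_of_pow_eq_one (n := k)
      (by rw [← Units.val_pow_eq_pow_val, ← map_pow, hk1, map_one, Units.val_one]) hk.ne'
  have hnorm : ‖bracket K ζ y‖ = ‖bracket Q.K η y‖ := by
    have h1 := congrArg norm e1
    have h2 := congrArg norm e2
    rw [norm_mul, norm_mul ((θ : D.K0 → ℂ) _), hθnorm, one_mul] at h1
    rw [norm_mul] at h2
    exact mul_left_cancel₀ (norm_ne_zero_iff.2 hC0) (h1.trans h2.symm)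
  have hb2ne : bracket Q.K η y ≠ 0 := fun h => hE0 (by rw [← e2, h, mul_zero])
  have hfs : (f : ℂ) - s ≠ 0 := fun h => hb2ne (by rw [hb2, h]; simp)
  have hkey : ‖(f : ℂ) - s‖ ^ 2 * ((fa : ℝ) * fb * d) = ‖(d : ℂ) * s' - fa * R‖ ^ 2 * ((f : ℝ) * e) := by
    rw [hb1, hb2, norm_div, norm_div, norm_pow, norm_pow] at hnorm
    simp only [norm_mul, Complex.norm_natCast] at hnorm
    have h1 : (0 : ℝ) < (fa : ℝ) * fb * d := by
      have := charDegree_pos ζ
      have := charDegree_pos K.b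
      positivity
    have h2 : (0 : ℝ) < (f : ℝ) * e := by positivity
    rw [div_eq_div_iff h1.ne' h2.ne'] at hnorm
    exact hnorm.symm
  -- the case `fa > 1` is impossible
  have hfa1 : fa = 1 := by
    by_contra hne
    have hv : (2 : ℕ) ≤ wa := by
      by_contra h
      obtain rfl : wa = 1 := by omega
      rw [Nat.cast_one, mul_one] at hwaZ
      omega
    set v : ℝ := (wa : ℝ) - 1 with hvdef
    have hwaR : (2 : ℝ) ≤ wa := by exact_mod_cast hv
    have hfaR : (fa : ℝ) = p * v + 1 := by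
      have h : (((p : ℤ) * wa : ℤ) : ℝ) = (((fa : ℤ) + ((p : ℤ) - 1) : ℤ) : ℝ) := by rw [hwaZ]
      push_cast at h
      rw [hvdef]; linarith
    have hdR : (d : ℝ) = p - 2 := by
      have : (d : ℝ) + 2 = p := by exact_mod_cast B.deg
      linarith
    have hfbR : (fb : ℝ) = p * v + p - 1 := by
      have : (fb : ℝ) = fa + d := by exact_mod_cast hfb'
      linarith
    have hnum : ‖(d : ℂ) * s' - fa * R‖ ≤ ((p : ℝ) - 1) * (2 * v + 1) := by
      refine (norm_sub_le _ _).trans ?_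
      rw [norm_mul, norm_mul, Complex.norm_natCast, Complex.norm_natCast, hR, B.norm_y, mul_one]
      have : (d : ℝ) * ‖s'‖ ≤ d * wa := mul_le_mul_of_nonneg_left hwa' (Nat.cast_nonneg _)
      rw [hdR] at this ⊢
      rw [hfaR, hvdef] at *
      linarith
    have hmain : ‖(f : ℂ) - s‖ ^ 2 * (((p : ℝ) * v + 1) * ((p : ℝ) * v + p - 1) * ((p : ℝ) - 2))
        ≤ ((p : ℝ) - 1) ^ 2 * (2 * v + 1) ^ 2 * ((f : ℝ) * e) := by
      rw [← hfaR, ← hfbR, ← hdR, hkey, ← mul_pow]
      exact mul_le_mul_of_nonneg_right (pow_le_pow_left₀ (norm_nonneg _) hnum 2) (by positivity)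
    have hp7R : (7 : ℝ) ≤ p := by exact_mod_cast hp7
    have hfN : (f : ℝ) - wb ≤ ‖(f : ℂ) - s‖ := by
      have := norm_sub_norm_le (f : ℂ) s
      rw [Complex.norm_natCast] at this
      linarith
    refine bound_absurd hp7R (by rw [hvdef]; linarith) (norm_nonneg _) hmain (u := ((wb : ℝ) - Q.K.sb)) ?_
    rcases Q.K.sgn_b with hb | hb
    · rw [hb] at hwbZ hef
      have hwb1 : 1 ≤ wb := by
        by_contra h
        obtain rfl : wb = 0 := by omega
        rw [Nat.cast_zero, mul_zero] at hwbZ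
        omega
      by_cases hw1 : wb = 1
      · -- a linear nonexceptional character
        left
        subst hw1
        have hf1 : f = 1 := by rw [Nat.cast_one, mul_one] at hwbZ; omega
        have he2 : e = 2 := by omega
        refine ⟨by rw [hf1, Nat.cast_one], by rw [he2]; norm_num, ?_⟩
        obtain ⟨l, hl⟩ := exists_hom_of_apply_one_eq_one (isCharacter_irr Q.K.b)
          (by rw [irr_one_eq, ← hf, hf1, Nat.cast_one])
        have hlz : (l (y * y) : ℂ) = 1 := by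
          have h := Q.K.val Q.K.b (Or.inr (Or.inl rfl)) 1 one_ne_zero ⟨y * y, B.sq_mem⟩
          rw [Q.K.sec_b 1 one_ne_zero, hb, Int.cast_one, θone_apply, one_mul, D.coe_el, ZMod.val_one, pow_one, hl] at h
          simp only [map_mul, B.hom_x, one_mul] at h
          rw [map_mul]
          exact h
        have hs2 : s * s = 1 := by
          rw [hs, hl, ← Units.val_mul, ← map_mul]
          exact hlz
        rcases mul_self_eq_one_iff.1 hs2 with h | h
        · exact absurd (by rw [hf1, h, Nat.cast_one, sub_self]) hfs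
        · rw [hf1, h, Nat.cast_one, sub_neg_eq_add]
          norm_num
      · have hw2 : 2 ≤ wb := by omega
        have hu : (1 : ℝ) ≤ (wb : ℝ) - (Q.K.sb : ℝ) := by
          rw [hb, Int.cast_one]
          have : (2 : ℝ) ≤ wb := by exact_mod_cast hw2
          linarith
        have hfR : (f : ℝ) = p * ((wb : ℝ) - Q.K.sb) + 1 := by
          have h : (((p : ℤ) * wb : ℤ) : ℝ) = (((f : ℤ) + ((p : ℤ) - 1) * 1 : ℤ) : ℝ) := by rw [hwbZ]
          push_cast at h
          rw [hb, Int.cast_one]; linarith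
        have heR : (e : ℝ) = p * ((wb : ℝ) - Q.K.sb) + 2 := by
          have : ((e : ℤ) : ℝ) = (((f : ℤ) + 1 : ℤ) : ℝ) := by rw [hef]
          push_cast at this
          linarith
        by_cases hp11 : 11 ≤ p
        · right; right; left
          refine ⟨by exact_mod_cast hp11, hu, ?_, hfR, heR⟩
          rw [hb, Int.cast_one] at hfR ⊢
          linarith
        -- the prime seven
        right; right; right
        have hp7' : p = 7 := by
          have h4 : p = 7 ∨ p = 8 ∨ p = 9 ∨ p = 10 := by omega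
          rcases h4 with h | h | h | h
          · exact h
          all_goals exact absurd (h ▸ hp.out) (by norm_num)
        have hker : ∀ v ∈ D.K0, (ζ : G → ℂ) v * conj ((ζ : G → ℂ) v)
            = (ζ : G → ℂ) 1 * conj ((ζ : G → ℂ) 1) := fun v hv => by
          obtain ⟨l, hl⟩ := exists_hom_of_apply_one_eq_one (isCharacter_irr θ) B.theta_one_apply
          obtain ⟨k, hk, hk1⟩ := (isOfFinOrder_of_finite (⟨v, hv⟩ : D.K0)).exists_pow_eq_one
          have hn : ‖(θ : D.K0 → ℂ) ⟨v, hv⟩‖ = 1 := by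
            rw [hl]
            exact Complex.norm_eq_one_of_pow_eq_one (n := k)
              (by rw [← Units.val_pow_eq_pow_val, ← map_pow, hk1, map_one, Units.val_one]) hk.ne'
          rw [Complex.mul_conj', Complex.mul_conj', show (ζ : G → ℂ) v = (ζ : G → ℂ) ((⟨v, hv⟩ : D.K0) : G) from rfl,
            B.apply_center, irr_one_eq, norm_mul, hn, one_mul]
        obtain ⟨c, M, W, X, m₁, hm1, hX, hdeg, hsum, hy, -⟩ := Q.decompose hp2 B.inv B.regular_y hη
          (ψ := fun g => (ζ : G → ℂ) g * conj ((ζ : G → ℂ) g))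
          (IsCharacter.mul (isCharacter_irr ζ) (IsCharacter.conj' (isCharacter_irr ζ))) hker
        have hm : m₁ = 1 := by
          have h : classInner (fun g => (ζ : G → ℂ) g * conj ((ζ : G → ℂ) g)) (fun _ => 1)
              = classInner (ζ : G → ℂ) (ζ : G → ℂ) := by simp only [Cfsg.classInner, map_one, mul_one]
          rw [h, classInner_irr_self ζ.2] at hm1
          exact_mod_cast hm1.symm
        rw [hm, Nat.cast_one] at hsum hy
        rw [hm, irr_one_eq, map_natCast] at hdeg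
        have hd5 : d = 5 := by have := B.deg; omega
        rw [← hf, ← he, ← hd, hd5] at hdeg
        simp only [hp7'] at hdeg
        have hdeg' : 25 = 1 + c * f + M * e + 7 * W := by exact_mod_cast hdeg
        rw [B.sum_sq, hb, hAσ, hb] at hsum
        have hsum' : (10 : ℤ) = 6 * (1 + c) - 2 * M := by
          have h : ((10 : ℤ) : ℂ) = ((6 * (1 + (c : ℤ)) - 2 * M : ℤ) : ℂ) := by
            simp only [hp7'] at hsum
            push_cast at hsum ⊢
            linear_combination hsum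
          exact_mod_cast h
        have hfe : e = f + 1 := by omega
        have hc1 : 1 ≤ c := by omega
        have hM1 : 1 ≤ M := by omega
        have h1 := Nat.mul_le_mul_right f hc1
        have h2 := Nat.mul_le_mul_right e hM1
        simp only [hp7'] at hwbZ
        push_cast at hwbZ
        have hwb2 : wb = 2 := by omega
        have hf8 : f = 8 := by omega
        have he9 : e = 9 := by omega
        rw [hf8, he9] at hdeg'
        have hc : c = 1 := by omega
        have hMeq : M = 1 := by omega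
        have hW : W = 1 := by omega
        rw [hc, hMeq, Nat.cast_one, one_mul, one_mul, hry, hb, Int.cast_one, ← hs] at hy
        have hyR : (ζ : G → ℂ) y * conj ((ζ : G → ℂ) y) = 1 := by rw [Complex.mul_conj', B.norm_y]; norm_num
        rw [hyR] at hy
        have hX2 : ‖2 * s + 1‖ ≤ 1 := by
          rw [show 2 * s + 1 = -X by linear_combination -hy, norm_neg]
          calc ‖X‖ ≤ (W : ℝ) := hX
            _ = 1 := by rw [hW, Nat.cast_one]
        have hs1 : ‖s‖ ≤ 1 := by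
          have h := norm_add_le (2 * s + 1) (-1 : ℂ)
          rw [add_neg_cancel_right, norm_mul, Complex.norm_two, norm_neg, norm_one] at h
          linarith
        refine ⟨by rw [hp7']; norm_num, by rw [hf8]; norm_num, by rw [he9]; norm_num, ?_⟩
        have := norm_sub_norm_le (f : ℂ) s
        rw [Complex.norm_natCast, hf8] at this
        push_cast at this
        rw [hf8]
        push_cast
        linarith
    · rw [hb] at hwbZ hef
      right; left
      have hfR : (f : ℝ) = p * ((wb : ℝ) - Q.K.sb) - 1 := by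
        have h : (((p : ℤ) * wb : ℤ) : ℝ) = (((f : ℤ) + ((p : ℤ) - 1) * (-1) : ℤ) : ℝ) := by rw [hwbZ]
        push_cast at h
        rw [hb, Int.cast_neg, Int.cast_one]; linarith
      refine ⟨?_, ?_, hfR, ?_⟩
      · rw [hb, Int.cast_neg, Int.cast_one]
        have := Nat.cast_nonneg (α := ℝ) wb
        linarith
      · rw [hb, Int.cast_neg, Int.cast_one] at hfR ⊢
        linarith
      · have : ((e : ℤ) : ℝ) = (((f : ℤ) + (-1) : ℤ) : ℝ) := by rw [hef]
        push_cast at this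
        linarith
  -- the linear character and the twist of `ζ`
  obtain ⟨l, hl⟩ := exists_hom_of_apply_one_eq_one (isCharacter_irr K.a) (by rw [irr_one_eq, ← hfa, hfa1, Nat.cast_one])
  have hlv : ∀ v : D.K0, (l (v : G) : ℂ) = (θ : D.K0 → ℂ) v := fun v => by
    have h := K.val K.a (Or.inl rfl) 1 one_ne_zero v
    rw [K.sec_a 1 one_ne_zero, hKa, Int.cast_one, one_mul, D.coe_el, ZMod.val_one, pow_one, hl] at h
    simpa [B.hom_x] using h
  set ζ' : IrrCharacter G := ⟨_, IsIrrCharacter.mul_hom ζ.2 l⁻¹⟩ with hζ'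
  have hζ'val : ∀ g, (ζ' : G → ℂ) g = (ζ : G → ℂ) g * ((l g)⁻¹ : ℂˣ) := fun g => rfl
  have hd' : charDegree (ζ' : G → ℂ) = d := by
    have h := hζ'val 1
    rw [irr_one_eq, irr_one_eq, map_one, inv_one, Units.val_one, mul_one] at h
    exact_mod_cast h
  obtain ⟨k, hk, hne⟩ := B.exists_x_ne
  have hsec : D.sec (θone D) ζ' k = (ζ : G → ℂ) (D.x ^ k.val) := by
    rw [Frame.sec, Frame.comp, Cfsg.classInner, Finset.sum_congr rfl (g := fun _ => (ζ : G → ℂ) (D.x ^ k.val))
      fun v _ => ?_, Finset.sum_const, Finset.card_univ, ← Nat.card_eq_fintype_card, nsmul_eq_mul, ← mul_assoc,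
      inv_mul_cancel₀ Char.card_ne_zero, one_mul]
    rw [θone_apply, map_one, mul_one, hζ'val, B.val, D.coe_el, map_mul, map_pow, B.hom_x, one_pow, one_mul,
      Units.val_inv_eq_inv_val, hlv v]
    have hθv : (θ : D.K0 → ℂ) v ≠ 0 := by rw [← hlv v]; exact Units.ne_zero _
    field_simp
  have hmem : ζ' ∈ Q.K.Y := by
    rcases Q.K.mem_of_sec_ne hk (χ := ζ') (by rw [hsec]; exact hne) with h | h | h
    · exfalso
      have := hd'
      rw [h, Q.deg_a] at this
      have := B.deg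
      omega
    · exfalso
      have := Q.K.mod_b
      rw [← h, hd'] at this
      exact not_modEq_sign hp7 B.deg Q.K.sgn_b this
    · exact h
  have hed : e = d := by rw [he, ← Q.K.deg_Y ζ' hmem, hd']
  have hed' : e + 2 = p := by rw [hed]; exact B.deg
  have hσ : Q.K.sb = -1 := by
    refine Q.K.sgn_b.resolve_left fun hb => ?_
    rw [hb] at hef
    have h := Q.K.mod_b
    rw [hb, ← hf] at h
    obtain ⟨z, hz⟩ := Int.modEq_iff_dvd.1 h
    have h1 : (p : ℤ) ∣ 4 := ⟨z + 1, by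
      have : (e : ℤ) + 2 = p := by exact_mod_cast hed'
      linear_combination hz + this - hef⟩
    have := Int.le_of_dvd (by norm_num) h1
    omega
  refine ⟨Q, η, l, hη, hlv, ?_, hσ, by rw [hAσ, hσ, neg_neg], hed'⟩
  rw [hσ] at hef
  show f + 1 = p
  omega

end CfsgLib.Char.DegPMinusTwo
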