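import Cfsg.Agent.Lib.Char.DegPMinusTwo.Block

/-!
# A faithful character of degree `p - 2`: characters trivial on the centre

Such a character is a combination of the principal block and of characters that vanish at the
elements of order `p`.
-/

set_option autoImplicit false

open scoped ComplexConjugate Classical

namespace CfsgLib.Char.DegPMinusTwo

open Cfsg CfsgLib CfsgLib.Blocks CfsgLib.Blocks.DefectOne CfsgLib.CharDeep.ExactP

universe u

variable {G : Type u} [Group G] [Fintype G] {p : ℕ} [hp : Fact p.Prime] {P : Sylow p G} {D : Frame P}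
  {ζ : IrrCharacter G} {θ : IrrCharacter D.K0} {y : G}

omit hp in
theorem oneChar_apply (g : G) : (DegreeTools.oneChar G : G → ℂ) g = 1 := rfl

theorem Base.seven_le (B : Base D ζ θ y) : 7 ≤ p := by
  by_contra h
  have := B.five_lt
  obtain rfl : p = 6 := by omega
  exact absurd hp.out (by norm_num)

theorem Base.regular_y (B : Base D ζ θ y) : ¬ p ∣ orderOf y := fun h => by
  have h1 : orderOf y ∣ 2 * Nat.card D.K0 := by
    refine orderOf_dvd_of_pow_eq_one ?_
    rw [pow_mul, sq, show y * y = ((⟨y * y, B.sq_mem⟩ : D.K0) : G) from rfl, ← Subgroup.coe_pow,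
      pow_card_eq_one', OneMemClass.coe_one]
  rcases (hp.out.dvd_mul).1 (h.trans h1) with h | h
  · have := Nat.le_of_dvd two_pos h
    have := B.five_lt
    omega
  · exact D.not_dvd h

/-- A linear character is trivial at an inverted element of odd order. -/
theorem Base.hom_x (B : Base D ζ θ y) (f : G →* ℂˣ) : f D.x = 1 := by
  have h1 : f D.x = (f D.x)⁻¹ := by
    rw [← map_inv, ← B.inv, map_mul, map_mul, map_inv, mul_comm (f y), mul_inv_cancel_right]
  have h2 : f D.x ^ 2 = 1 := by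
    rw [sq]
    nth_rw 2 [h1]
    exact mul_inv_cancel _
  have h3 : f D.x ^ p = 1 := by rw [← map_pow, show D.x ^ p = 1 from PrimeOrder.pow_prime_eq_one D.ord, map_one]
  have h4 := pow_gcd_eq_one.2 ⟨h2, h3⟩
  rwa [show Nat.gcd 2 p = 1 from (Nat.coprime_primes Nat.prime_two hp.out).2 (by have := B.five_lt; omega),
    pow_one] at h4

/-- The principal block with the trivial character in first place. -/
structure Principal (D : Frame P) where
  K : Blk D (θone D)
  a_eq : K.a = DegreeTools.oneChar G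
  sa_eq : K.sa = 1

theorem sec_oneChar (D : Frame P) (k : ZMod p) : D.sec (θone D) (DegreeTools.oneChar G) k = 1 := by
  rw [Frame.sec, Frame.comp, Cfsg.classInner]
  simp [θone_apply, oneChar_apply]

theorem Base.exists_principal (B : Base D ζ θ y) : Nonempty (Principal D) := by
  obtain ⟨K⟩ := exists_blk B.seven_le B.range (by rw [B.K0_eq]) (θone D) (fdeg_θone D)
  have hmem := K.mem_of_sec_ne (one_ne_zero (α := ZMod p)) (χ := DegreeTools.oneChar G)
    (by rw [sec_oneChar]; exact one_ne_zero)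
  have hfix : ∀ K : Blk D (θone D), K.a = DegreeTools.oneChar G → K.sa = 1 := fun K h => by
    have h1 := K.sec_a 1 one_ne_zero
    rw [h, sec_oneChar] at h1
    exact_mod_cast h1.symm
  rcases hmem with h | h | h
  · exact ⟨⟨K, h.symm, hfix K h.symm⟩⟩
  · exact ⟨⟨K.swap, h.symm, hfix K.swap h.symm⟩⟩
  · exfalso
    have h1 := K.sum_x_Y _ h
    simp only [oneChar_apply, Finset.sum_const, Finset.card_erase_of_mem (Finset.mem_univ _), Finset.card_univ,
      ZMod.card, nsmul_eq_mul, mul_one] at h1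
    have h2 : ((p - 1 : ℕ) : ℤ) = 2 * K.A := by exact_mod_cast h1
    have := B.seven_le
    rcases K.sgn_A with hA | hA <;> rw [hA] at h2 <;> omega

namespace Principal

variable (Q : Principal D)

theorem sum_x_b : ∑ k ∈ Finset.univ.erase (0 : ZMod p), (Q.K.b : G → ℂ) (D.x ^ k.val) = ((p : ℂ) - 1) * Q.K.sb :=
  Q.K.sum_x_b (fdeg_θone D)

theorem deg_a : charDegree (Q.K.a : G → ℂ) = 1 := by rw [Q.a_eq]; exact DegreeTools.deg_oneChar

/-- Decomposing a character trivial on `K0`. -/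
theorem decompose (hp2 : p ≠ 2) (hy : y * D.x * y⁻¹ = D.x⁻¹) (hyr : ¬ p ∣ orderOf y) {η : IrrCharacter G}
    (hη : η ∈ Q.K.Y) {ψ : G → ℂ} (hψ : IsCharacter G ψ) (hker : ∀ v ∈ D.K0, ψ v = ψ 1) :
    ∃ (c M W : ℕ) (X : ℂ) (m₁ : ℕ), classInner ψ (fun _ => 1) = m₁ ∧ ‖X‖ ≤ W ∧
      ψ 1 = ((m₁ + c * charDegree (Q.K.b : G → ℂ) + M * Q.K.e + p * W : ℕ) : ℂ) ∧
      ∑ k ∈ Finset.univ.erase (0 : ZMod p), ψ (D.x ^ k.val)
        = ((p : ℂ) - 1) * ((m₁ : ℂ) + c * Q.K.sb) + 2 * (Q.K.A : ℂ) * M ∧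
      ψ y = (m₁ : ℂ) + c * (Q.K.b : G → ℂ) y + M * (η : G → ℂ) y + X ∧
      (W = 0 → ∀ g : G, ¬ p ∣ orderOf g → ψ g = (m₁ : ℂ) + c * (Q.K.b : G → ℂ) g + M * (η : G → ℂ) g) := by
  obtain ⟨m, hm, hexp⟩ := IsCharacter.exists_multiplicity hψ
  set K := Q.K
  set O : Finset (IrrCharacter G) := Finset.univ.filter fun φ => φ ≠ K.a ∧ φ ≠ K.b ∧ φ ∉ K.Y with hO
  choose w hw1 hw2 using fun φ : IrrCharacter G => exists_fix_bound D hp2 (isCharacter_irr φ) hy
  have hsplit : ∀ F : IrrCharacter G → ℂ, ∑ φ, F φ = F K.a + F K.b + ∑ φ ∈ K.Y, F φ + ∑ φ ∈ O, F φ := by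
    intro F
    have hu : (Finset.univ : Finset (IrrCharacter G)) = (({K.a, K.b} : Finset (IrrCharacter G)) ∪ K.Y) ∪ O := by
      ext φ
      simp only [hO, Finset.mem_union, Finset.mem_insert, Finset.mem_singleton, Finset.mem_filter, Finset.mem_univ,
        true_and, true_iff]
      tauto
    have d1 : Disjoint ({K.a, K.b} : Finset (IrrCharacter G)) K.Y := by
      rw [Finset.disjoint_left]
      intro φ hφ
      rcases Finset.mem_insert.1 hφ with rfl | h
      · exact K.a_notMem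
      · rw [Finset.mem_singleton.1 h]; exact K.b_notMem
    have d2 : Disjoint (({K.a, K.b} : Finset (IrrCharacter G)) ∪ K.Y) O := by
      rw [Finset.disjoint_right]
      intro φ hφ h
      simp only [hO, Finset.mem_filter, Finset.mem_univ, true_and] at hφ
      simp only [Finset.mem_union, Finset.mem_insert, Finset.mem_singleton] at h
      tauto
    rw [hu, Finset.sum_union d2, Finset.sum_union d1, Finset.sum_pair K.hab]
  -- the remaining constituents vanish at the elements of order `p`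
  have hOx : ∀ φ ∈ O, m φ ≠ 0 → ∀ k : ZMod p, k ≠ 0 → (φ : G → ℂ) (D.x ^ k.val) = 0 := by
    intro φ hφ hm0 k hk
    simp only [hO, Finset.mem_filter, Finset.mem_univ, true_and] at hφ
    have h0 := K.out φ hφ.1 hφ.2.1 hφ.2.2 k hk
    rw [Frame.sec, Frame.comp, Cfsg.classInner, Finset.sum_congr rfl (g := fun _ => (φ : G → ℂ) (D.x ^ k.val))
      fun v _ => ?_, Finset.sum_const, Finset.card_univ, ← Nat.card_eq_fintype_card, nsmul_eq_mul, ← mul_assoc,
      inv_mul_cancel₀ Char.card_ne_zero, one_mul] at h0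
    · exact h0
    · rw [θone_apply, map_one, mul_one, D.coe_el]
      have hv := IsCharacter.constituent_apply_eq_one hψ φ.2 (by rw [hm]; exact_mod_cast hm0) (hker v v.2)
      rw [← ((D.commute_x v.2).pow_right k.val).eq]
      exact IsCharacter.apply_mul_of_mem_ker (isCharacter_irr φ) hv _
  have hY : ∀ g : G, ¬ p ∣ orderOf g →
      ∑ φ ∈ K.Y, (m φ : ℂ) * (φ : G → ℂ) g = ((∑ φ ∈ K.Y, m φ : ℕ) : ℂ) * (η : G → ℂ) g := fun g hg => by
    rw [Nat.cast_sum, Finset.sum_mul]
    exact Finset.sum_congr rfl fun φ hφ => by rw [K.agree φ hφ η hη g hg]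
  have hm1 : ∀ g : G, (m K.a : ℂ) * (K.a : G → ℂ) g = (m K.a : ℂ) := fun g => by
    rw [Q.a_eq, oneChar_apply, mul_one]
  have hOdeg : ∀ φ ∈ O, m φ * charDegree (φ : G → ℂ) = m φ * (p * w φ) := by
    intro φ hφ
    by_cases hm0 : m φ = 0
    · rw [hm0, zero_mul, zero_mul]
    congr 1
    have h := hw1 φ
    rw [Finset.sum_eq_zero fun k hk => hOx φ hφ hm0 k (Finset.ne_of_mem_erase hk), add_zero, irr_one_eq] at h
    exact_mod_cast h.symm
  refine ⟨m K.b, ∑ φ ∈ K.Y, m φ, ∑ φ ∈ O, m φ * w φ, ∑ φ ∈ O, (m φ : ℂ) * (φ : G → ℂ) y, m K.a, ?_, ?_, ?_, ?_, ?_,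
    fun hW g hg => ?_⟩
  · rw [← hm, Q.a_eq]; rfl
  · refine (norm_sum_le _ _).trans ?_
    rw [Nat.cast_sum]
    refine Finset.sum_le_sum fun φ _ => ?_
    rw [norm_mul, Complex.norm_natCast, Nat.cast_mul]
    exact mul_le_mul_of_nonneg_left (hw2 φ).1 (Nat.cast_nonneg _)
  · rw [hexp, hsplit, hm1, Finset.mul_sum, Finset.sum_mul]
    push_cast
    congr 1
    · congr 1
      · rw [irr_one_eq]
      · exact Finset.sum_congr rfl fun φ hφ => by rw [irr_one_eq, K.deg_Y φ hφ]
    · refine Finset.sum_congr rfl fun φ hφ => ?_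
      rw [irr_one_eq]
      have h := congrArg (fun k : ℕ => (k : ℂ)) (hOdeg φ hφ)
      push_cast at h
      linear_combination h
  · rw [Finset.sum_congr rfl fun k _ => hexp (D.x ^ k.val), Finset.sum_comm, hsplit]
    simp only [← Finset.mul_sum]
    rw [Q.sum_x_b, Finset.sum_eq_zero (s := O) fun φ hφ => ?_,
      Finset.sum_congr rfl (s₁ := K.Y) fun φ hφ => by rw [K.sum_x_Y φ hφ], ← Finset.sum_mul]
    · rw [Q.a_eq]
      simp only [oneChar_apply, Finset.sum_const, Finset.card_erase_of_mem (Finset.mem_univ _), Finset.card_univ,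
        ZMod.card, nsmul_eq_mul, mul_one, Nat.cast_sub hp.out.one_le, Nat.cast_one]
      push_cast
      ring
    · by_cases hm0 : m φ = 0
      · rw [hm0, Nat.cast_zero, zero_mul]
      · rw [Finset.sum_eq_zero fun k hk => hOx φ hφ hm0 k (Finset.ne_of_mem_erase hk), mul_zero]
  · rw [hexp, hsplit, hm1, hY y hyr]
  · rw [hexp, hsplit, hm1, hY g hg, Finset.sum_eq_zero (s := O) fun φ hφ => ?_, add_zero]
    have h := Finset.sum_eq_zero_iff.1 hW φ hφ
    have hm0 : m φ = 0 := by
      rcases Nat.mul_eq_zero.1 h with h | h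
      · exact h
      · have h2 := hOdeg φ hφ
        rw [h, mul_zero, mul_zero] at h2
        exact (Nat.mul_eq_zero.1 h2).resolve_right (charDegree_pos φ).ne'
    rw [hm0, Nat.cast_zero, zero_mul]

end Principal

end CfsgLib.Char.DegPMinusTwo
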