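import Cfsg.Agent.Lib.Char.DegPMinusTwo.Decomp
import Cfsg.Agent.Lib.Recognition.SelfCentThree.Chars

/-!
# A faithful character of degree `p - 2`: factorisations of the elements of order `p`

Two blocks over the centre give sums of the same absolute value for the products of two conjugates
of an element inverting `x`.
-/

set_option autoImplicit false

open scoped ComplexConjugate Classical

namespace CfsgLib.Char.DegPMinusTwo

open Cfsg CfsgLib CfsgLib.Blocks CfsgLib.Blocks.DefectOne CfsgLib.CharDeep.ExactP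

universe u

variable {G : Type u} [Group G] [Fintype G] {p : ℕ} [hp : Fact p.Prime] {P : Sylow p G} {D : Frame P}
  {ζ : IrrCharacter G} {θ : IrrCharacter D.K0} {y : G}

/-- The sum over the block. -/
noncomputable def bracket {μ : IrrCharacter D.K0} (K : Blk D μ) (η : IrrCharacter G) (y : G) : ℂ :=
  (K.sa : ℂ) * ((K.a : G → ℂ) y * (K.a : G → ℂ) y) / (charDegree (K.a : G → ℂ) : ℂ)
    + (K.sb : ℂ) * ((K.b : G → ℂ) y * (K.b : G → ℂ) y) / (charDegree (K.b : G → ℂ) : ℂ)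
    + (K.A : ℂ) * ((η : G → ℂ) y * (η : G → ℂ) y) / (K.e : ℂ)

theorem Base.norm_y (B : Base D ζ θ y) : ‖(ζ : G → ℂ) y‖ = 1 := by
  obtain ⟨w, hw, -, h1⟩ := exists_fix_bound D (by have := B.five_lt; omega) (isCharacter_irr ζ) B.inv
  refine h1 ?_
  rw [B.sum_x, irr_one_eq] at hw
  have h : p * w = charDegree (ζ : G → ℂ) + 2 := by exact_mod_cast hw
  rw [B.deg] at h
  exact Nat.eq_of_mul_eq_mul_left hp.out.pos (h.trans (mul_one p).symm)

theorem Base.theta_one_apply (B : Base D ζ θ y) : (θ : D.K0 → ℂ) 1 = 1 := by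
  rw [irr_one_eq, show charDegree (θ : D.K0 → ℂ) = 1 from B.theta_one, Nat.cast_one]

/-- On the centre the character `ζ` is a multiple of `θ`. -/
theorem Base.apply_center (B : Base D ζ θ y) (v : D.K0) :
    (ζ : G → ℂ) (v : G) = (θ : D.K0 → ℂ) v * (charDegree (ζ : G → ℂ) : ℂ) := by
  have h := B.val 0 v
  rwa [D.el_zero, ZMod.val_zero, pow_zero, irr_one_eq] at h

theorem Base.theta_inj (B : Base D ζ θ y) {v : D.K0} (h : (θ : D.K0 → ℂ) v = 1) : v = 1 := by
  refine Subtype.ext (B.faithful _ ?_)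
  rw [B.apply_center, h, one_mul, irr_one_eq]

/-- Multiplying by a central element. -/
theorem Base.apply_mul_center (B : Base D ζ θ y) (g : G) (v : D.K0) :
    (ζ : G → ℂ) (g * (v : G)) = (θ : D.K0 → ℂ) v * (ζ : G → ℂ) g := by
  have hv : (v : G) ∈ Subgroup.center G := B.K0_eq ▸ v.2
  obtain ⟨n, ρ, hirr, hρ⟩ := ζ.2
  obtain ⟨ω, -, hω, hc⟩ := exists_scalar_of_norm_char_eq ρ (v : G) (by
    rw [hρ, B.apply_center, norm_mul, Complex.norm_natCast]
    obtain ⟨f, hf⟩ := exists_hom_of_apply_one_eq_one (isCharacter_irr θ) B.theta_one_apply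
    obtain ⟨k, hk, hk1⟩ := (isOfFinOrder_of_finite v).exists_pow_eq_one
    rw [hf, Complex.norm_eq_one_of_pow_eq_one (n := k)
      (by rw [← Units.val_pow_eq_pow_val, ← map_pow, hk1, map_one, Units.val_one]) hk.ne', one_mul]
    have h1 := congrFun hρ 1
    rw [Representation.char_one, irr_one_eq, Nat.cast_inj] at h1
    exact congrArg Nat.cast h1.symm)
  have hmul : ∀ u : G, ρ.character (u * (v : G)) = ω * ρ.character u := fun u => by
    show LinearMap.trace ℂ _ (ρ (u * (v : G))) = ω * LinearMap.trace ℂ _ (ρ u)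
    rw [map_mul, hω, mul_smul_comm, ← Module.End.one_eq_id, mul_one, map_smul, smul_eq_mul]
  have hωθ : ω = (θ : D.K0 → ℂ) v := by
    have h1 := hmul 1
    rw [one_mul, hρ, B.apply_center, irr_one_eq] at h1
    exact (mul_right_cancel₀ (Nat.cast_ne_zero.2 (charDegree_pos ζ).ne') h1).symm
  rw [← hωθ, ← hρ]
  exact hmul g

/-- The factorisations of `x` into two conjugates of `y`, up to the centre. -/
noncomputable def pairCount (y g : G) : ℕ := Nat.card {u : G // IsConj u y ∧ IsConj (u⁻¹ * g) y}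

theorem Base.pairs_ne (B : Base D ζ θ y) {v : D.K0}
    (hv : pairCount y (D.el 1 v : G) ≠ 0) : (v : G) = y * y := by
  obtain ⟨⟨u, hu, hw⟩⟩ := (Nat.card_ne_zero.1 hv).1
  have hz : y * y ∈ Subgroup.center G := B.K0_eq ▸ B.sq_mem
  have hsq : ∀ w : G, IsConj w y → w * w = y * y := fun w hw => by
    obtain ⟨c, hc⟩ := isConj_iff.1 hw
    have h1 : c * (w * w) * c⁻¹ = y * y := by rw [← hc]; group
    have h2 : c⁻¹ * (y * y) * c = y * y := by rw [Subgroup.mem_center_iff.1 hz c⁻¹, inv_mul_cancel_right]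
    rw [← h2, ← h1]; group
  rw [D.coe_el, ZMod.val_one, pow_one] at hw
  have hu2 := hsq u hu
  have hw2 := hsq _ hw
  set z := y * y with hzdef
  set v' := (v : G) with hv'
  have hvc : v' ∈ Subgroup.center G := B.K0_eq ▸ v.2
  have hvcomm : ∀ g : G, g * v' = v' * g := Subgroup.mem_center_iff.1 hvc
  have hzcomm : ∀ g : G, g * z = z * g := Subgroup.mem_center_iff.1 hz
  have hui : u⁻¹ = u * z⁻¹ := by rw [← hu2]; group
  -- `u` inverts `x`
  have h3 : u⁻¹ * D.x * u⁻¹ * D.x * (v' * v') = z := by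
    have hA : Commute (u⁻¹ * D.x) v' := hvcomm _
    rw [mul_assoc (u⁻¹ * D.x) u⁻¹ D.x, hA.mul_mul_mul_comm (u⁻¹ * D.x) v', mul_assoc u⁻¹ D.x v']
    exact hw2
  have h4 : u⁻¹ * D.x * u = D.x⁻¹ * (z * z * (v' * v')⁻¹) := by
    have h6 : u⁻¹ * D.x * u
        = (u⁻¹ * D.x * u⁻¹ * D.x * (v' * v')) * (v' * v')⁻¹ * D.x⁻¹ * (u * u) := by group
    have hw1 : Commute (v' * v')⁻¹ D.x⁻¹ :=
      (Subgroup.mem_center_iff.1 (inv_mem (mul_mem hvc hvc)) D.x⁻¹).symm
    have hw3 : Commute z (v' * v')⁻¹ := (hzcomm _).symm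
    have hw4 : Commute z D.x⁻¹ := (hzcomm _).symm
    rw [h6, h3, hu2, mul_assoc z _ D.x⁻¹, hw1.eq, ← mul_assoc z, hw4.eq, mul_assoc (D.x⁻¹ * z), ← hw3.eq]
    simp only [mul_assoc]
  set cc : G := z * z * (v' * v')⁻¹ with hcc
  have hccK : cc ∈ D.K0 := mul_mem (mul_mem B.sq_mem B.sq_mem) (inv_mem (mul_mem v.2 v.2))
  have hcc1 : cc = 1 := by
    have hcomm : Commute D.x⁻¹ cc := ((D.commute_x hccK).inv_right).symm
    have h7 : (u⁻¹ * D.x * u⁻¹⁻¹) ^ p = 1 := by
      rw [conj_pow, PrimeOrder.pow_prime_eq_one D.ord]; group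
    rw [inv_inv, h4, hcomm.mul_pow, inv_pow, PrimeOrder.pow_prime_eq_one D.ord, inv_one, one_mul] at h7
    by_contra hne
    have h8 : orderOf cc = p := orderOf_eq_prime h7 hne
    exact D.regular hccK (dvd_of_eq h8.symm)
  rw [hcc1, mul_one] at h4
  -- the second factor
  have hconj : IsConj (u * D.x) y := by
    have hpo : Odd p := hp.out.odd_of_ne_two (by have := B.five_lt; omega)
    obtain ⟨j, hj⟩ := hpo
    refine IsConj.trans (IsConj.symm (isConj_iff.2 ⟨(D.x ^ (j + 1))⁻¹, ?_⟩)) hu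
    have h9 : u⁻¹ * D.x ^ (j + 1) * u = (D.x ^ (j + 1))⁻¹ := by
      have := conj_pow (i := j + 1) (a := u⁻¹) (b := D.x)
      rw [inv_inv, h4, inv_pow] at this
      exact this.symm
    have h10 : (D.x ^ (j + 1))⁻¹ * u = u * D.x ^ (j + 1) := by
      calc (D.x ^ (j + 1))⁻¹ * u = u * (u⁻¹ * D.x ^ (j + 1) * u)⁻¹ * (u⁻¹ * u) := by group
        _ = _ := by rw [h9, inv_inv, inv_mul_cancel, mul_one]
    rw [inv_inv, h10, mul_assoc, ← pow_add, show j + 1 + (j + 1) = p + 1 by omega, pow_succ,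
      PrimeOrder.pow_prime_eq_one D.ord, one_mul]
  have hkey : (ζ : G → ℂ) y = (θ : D.K0 → ℂ) ⟨z⁻¹ * v', mul_mem (inv_mem B.sq_mem) v.2⟩ * (ζ : G → ℂ) y := by
    have hw' : IsConj (u * D.x * (z⁻¹ * v')) y := by
      have e : u * D.x * (z⁻¹ * v') = u⁻¹ * (D.x * v') := by
        rw [hui]
        have : D.x * z⁻¹ = z⁻¹ * D.x := (Subgroup.mem_center_iff.1 (inv_mem hz) D.x)
        simp only [mul_assoc]
        rw [← mul_assoc D.x, this, mul_assoc]
      rw [e]; exact hw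
    have hcl := IsCharacter.isClassFunction (isCharacter_irr ζ)
    have e1 := IsClassFunction.apply_eq_of_isConj hcl hw'
    have e2 := IsClassFunction.apply_eq_of_isConj hcl hconj
    rw [B.apply_mul_center _ ⟨z⁻¹ * v', mul_mem (inv_mem B.sq_mem) v.2⟩, e2] at e1
    exact e1.symm
  have hy0 : (ζ : G → ℂ) y ≠ 0 := fun h => by
    have := B.norm_y
    rw [h, norm_zero] at this
    exact zero_ne_one this
  have h1 := B.theta_inj ((mul_eq_right₀ hy0).1 hkey.symm)
  exact (inv_mul_eq_one.1 (congrArg Subtype.val h1)).symm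

theorem Base.pairs_pos (B : Base D ζ θ y) : pairCount y (D.el 1 ⟨y * y, B.sq_mem⟩ : G) ≠ 0 := by
  refine Nat.card_ne_zero.2 ⟨⟨⟨y, IsConj.refl _, ?_⟩⟩, inferInstance⟩
  have hz : y * y ∈ Subgroup.center G := B.K0_eq ▸ B.sq_mem
  rw [D.coe_el, ZMod.val_one, pow_one]
  have e : y⁻¹ * (D.x * (y * y)) = y * D.x := by
    rw [Subgroup.mem_center_iff.1 hz D.x]
    group
  rw [e]
  have hpo : Odd p := hp.out.odd_of_ne_two (by have := B.five_lt; omega)
  obtain ⟨j, hj⟩ := hpo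
  refine IsConj.symm (isConj_iff.2 ⟨(D.x ^ (j + 1))⁻¹, ?_⟩)
  have h9 : y * D.x ^ (j + 1) * y⁻¹ = (D.x ^ (j + 1))⁻¹ := by rw [← conj_pow, B.inv, inv_pow]
  rw [inv_inv, ← h9, show y * D.x ^ (j + 1) * y⁻¹ * y * D.x ^ (j + 1) = y * (D.x ^ (j + 1) * D.x ^ (j + 1)) by group,
    ← pow_add, show j + 1 + (j + 1) = p + 1 by omega, pow_succ, PrimeOrder.pow_prime_eq_one D.ord, one_mul]

/-- The sum over the block is, up to a root of unity, the same for all blocks over the centre. -/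
theorem Base.bracket_eq (B : Base D ζ θ y) {μ : IrrCharacter D.K0} (hμ : fdeg D μ = 1) (K : Blk D μ)
    {η : IrrCharacter G} (hη : η ∈ K.Y) :
    (Nat.card D.K0 : ℂ) * (Nat.card G : ℂ) * bracket K η y =
      (μ : D.K0 → ℂ) ⟨y * y, B.sq_mem⟩ * ((Nat.card (Subgroup.centralizer ({y} : Set G)) : ℂ) *
        (Nat.card (Subgroup.centralizer ({y} : Set G)) : ℂ) * (pairCount y (D.el 1 ⟨y * y, B.sq_mem⟩ : G) : ℂ)) := by
  have h1 : (1 : ZMod p) ≠ 0 := one_ne_zero
  have hsum : ∑ χ : IrrCharacter G, (χ : G → ℂ) y * (χ : G → ℂ) y * conj (D.sec μ χ 1) / (χ : G → ℂ) 1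
      = bracket K η y := by
    have hu : ∑ χ : IrrCharacter G, (χ : G → ℂ) y * (χ : G → ℂ) y * conj (D.sec μ χ 1) / (χ : G → ℂ) 1
        = ∑ χ ∈ ({K.a, K.b} : Finset (IrrCharacter G)) ∪ K.Y,
            (χ : G → ℂ) y * (χ : G → ℂ) y * conj (D.sec μ χ 1) / (χ : G → ℂ) 1 := by
      refine (Finset.sum_subset (Finset.subset_univ _) fun χ _ hχ => ?_).symm
      simp only [Finset.mem_union, Finset.mem_insert, Finset.mem_singleton, not_or] at hχ
      rw [K.out χ hχ.1.1 hχ.1.2 hχ.2 1 h1, map_zero, mul_zero, zero_div]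
    have d1 : Disjoint ({K.a, K.b} : Finset (IrrCharacter G)) K.Y := by
      rw [Finset.disjoint_left]
      intro φ hφ
      rcases Finset.mem_insert.1 hφ with rfl | h
      · exact K.a_notMem
      · rw [Finset.mem_singleton.1 h]; exact K.b_notMem
    rw [hu, Finset.sum_union d1, Finset.sum_pair K.hab, K.sec_a 1 h1, K.sec_b 1 h1, map_intCast, map_intCast,
      Finset.sum_congr rfl (s₁ := K.Y) (g := fun χ => (η : G → ℂ) y * (η : G → ℂ) y / (K.e : ℂ) * conj (D.sec μ χ 1))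
        fun χ hχ => by rw [irr_one_eq χ, K.deg_Y χ hχ, K.agree χ hχ η hη y B.regular_y]; ring,
      ← Finset.mul_sum, ← map_sum, K.sum_Y_sec 1 h1, map_intCast, irr_one_eq, irr_one_eq, bracket]
    ring
  have hsec : ∀ χ : IrrCharacter G, (Nat.card D.K0 : ℂ) * conj (D.sec μ χ 1)
      = ∑ v : D.K0, (μ : D.K0 → ℂ) v * conj ((χ : G → ℂ) (D.el 1 v : G)) := fun χ => by
    rw [Frame.sec, Frame.comp, Cfsg.classInner, map_mul, map_inv₀, map_natCast, ← mul_assoc,
      mul_inv_cancel₀ Char.card_ne_zero, one_mul, map_sum]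
    exact Finset.sum_congr rfl fun v _ => by rw [map_mul, Complex.conj_conj, mul_comm]
  rw [← hsum, mul_comm (Nat.card D.K0 : ℂ), mul_assoc, Finset.mul_sum]
  rw [Finset.sum_congr rfl (g := fun χ : IrrCharacter G => ∑ v : D.K0, (μ : D.K0 → ℂ) v *
    ((χ : G → ℂ) y * (χ : G → ℂ) y * conj ((χ : G → ℂ) (D.el 1 v : G)) / (χ : G → ℂ) 1)) fun χ _ => ?_,
    Finset.sum_comm, Finset.mul_sum, Finset.sum_eq_single (⟨y * y, B.sq_mem⟩ : D.K0)]
  · rw [← Finset.mul_sum, mul_left_comm, ← Recognition.SelfCentThree.card_pairs y y (D.el 1 ⟨y * y, B.sq_mem⟩ : G)]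
    rfl
  · intro v _ hv
    rw [← Finset.mul_sum, mul_left_comm, ← Recognition.SelfCentThree.card_pairs y y (D.el 1 v : G)]
    have h0 : pairCount y (D.el 1 v : G) = 0 := by
      by_contra hne
      exact hv (Subtype.ext (B.pairs_ne hne))
    rw [show Nat.card {u : G // IsConj u y ∧ IsConj (u⁻¹ * (D.el 1 v : G)) y} = 0 from h0, Nat.cast_zero, mul_zero,
      mul_zero]
  · exact fun h => absurd (Finset.mem_univ _) h
  · rw [← mul_div_assoc, show (Nat.card D.K0 : ℂ) * ((χ : G → ℂ) y * (χ : G → ℂ) y * conj (D.sec μ χ 1))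
      = (χ : G → ℂ) y * (χ : G → ℂ) y * ((Nat.card D.K0 : ℂ) * conj (D.sec μ χ 1)) by ring, hsec, Finset.mul_sum,
      Finset.sum_div]
    exact Finset.sum_congr rfl fun v _ => by ring

end CfsgLib.Char.DegPMinusTwo
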