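import Cfsg.Agent.Lib.Char.DegPMinusTwo.Avg
import Cfsg.Agent.Lib.CharDeep.ExactP.Main
import Cfsg.Agent.Lib.CharDeep.ExactP.Bound

/-!
# A faithful character of degree `p - 2`: the automizer and the centralizer

The automizer has order two, the `p'`-part of the centralizer is the centre, and the restriction
to `P` consists of all linear characters but two nontrivial ones.
-/

set_option autoImplicit false

open scoped ComplexConjugate Classical

namespace CfsgLib.Char.DegPMinusTwo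

open Cfsg CfsgLib CfsgLib.Blocks CfsgLib.Blocks.DefectOne CfsgLib.CharDeep.ExactP

universe u

variable {G : Type u} [Group G] [Fintype G] {p : ℕ} [hp : Fact p.Prime] {P : Sylow p G}

/-- The data. -/
structure Base (D : Frame P) (ζ : IrrCharacter G) (θ : IrrCharacter D.K0) (y : G) : Prop where
  five_lt : 5 < p
  deg : charDegree (ζ : G → ℂ) + 2 = p
  range : Nat.card D.act.range = 2
  K0_eq : D.K0 = Subgroup.center G
  theta_one : fdeg D θ = 1
  faithful : ∀ g : G, (ζ : G → ℂ) g = (ζ : G → ℂ) 1 → g = 1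
  not_const : ¬ IsConst D θ ζ
  val : ∀ (a : ZMod p) (v : D.K0), (ζ : G → ℂ) (D.el a v : G) = (θ : D.K0 → ℂ) v * (ζ : G → ℂ) (D.x ^ a.val)
  sum_x : ∑ a ∈ Finset.univ.erase (0 : ZMod p), (ζ : G → ℂ) (D.x ^ a.val) = 2
  sum_sq : ∑ a ∈ Finset.univ.erase (0 : ZMod p), (ζ : G → ℂ) (D.x ^ a.val) * conj ((ζ : G → ℂ) (D.x ^ a.val))
    = 2 * ((p : ℂ) - 2)
  inv : y * D.x * y⁻¹ = D.x⁻¹
  sq_mem : y * y ∈ D.K0

omit [Fintype G] in
theorem not_central_x (D : Frame P) (hnn : ¬ (P : Subgroup G).Normal) : D.x ∉ Subgroup.center G := by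
  intro h
  refine hnn ?_
  rw [← D.zp]
  exact ⟨fun n hn g => by
    obtain ⟨i, rfl⟩ := Subgroup.mem_zpowers_iff.1 hn
    rw [Subgroup.mem_center_iff.1 (zpow_mem h i) g, mul_inv_cancel_right]
    exact zpow_mem (Subgroup.mem_zpowers _) i⟩

/-- An element inverting `x` whose square lies in `K0`. -/
theorem exists_inverting (D : Frame P) (hq : Nat.card D.act.range = 2) :
    ∃ y : G, y * D.x * y⁻¹ = D.x⁻¹ ∧ y * y ∈ D.K0 := by
  haveI : Nontrivial D.act.range := Finite.one_lt_card_iff_nontrivial.1 (by omega)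
  obtain ⟨u, hu1⟩ := exists_ne (1 : D.act.range)
  obtain ⟨_, m, rfl⟩ := u
  have hsq : D.act m * D.act m = 1 := by
    have h : (⟨D.act m, ⟨m, rfl⟩⟩ : D.act.range) ^ Nat.card D.act.range = 1 := pow_card_eq_one'
    rw [hq, pow_two] at h
    exact congrArg Subtype.val h
  have hm : D.act m = -1 := by
    have h : ((D.act m : ZMod p)) * (D.act m : ZMod p) = 1 := by rw [← Units.val_mul, hsq, Units.val_one]
    rcases mul_self_eq_one_iff.1 h with e | e
    · exact absurd (Subtype.ext (Units.ext e)) hu1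
    · exact Units.ext e
  have hpo : Odd p := hp.out.odd_of_ne_two fun e => by
    subst e
    exact hu1 (Subtype.ext (hm.trans (Units.ext (ZMod.neg_eq_self_mod_two 1))))
  refine ⟨((m ^ p : nrm P) : G), ?_, ?_⟩
  · rw [D.conj_x, map_pow, hm, hpo.neg_one_pow]
    refine eq_inv_of_mul_eq_one_left ?_
    nth_rw 2 [← pow_one D.x]
    rw [← D.xpow_eq 1, Nat.cast_one, D.xpow_add, Units.val_neg, Units.val_one, neg_add_cancel, ZMod.val_zero,
      pow_zero]
  · have hc : ((m * m : nrm P) : G) ∈ cent P := (D.act_eq_one_iff _).1 (by rw [map_mul, hsq])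
    obtain ⟨i, v, hv, he⟩ := D.decomp _ ((D.mem_cent_iff _).1 hc)
    have hcv : Commute (D.x ^ i) v := ((D.commute_x hv).symm).pow_left i
    rw [← Subgroup.coe_mul, ← (Commute.refl m).mul_pow, Subgroup.coe_pow, he, hcv.mul_pow, ← pow_mul, mul_comm i p, pow_mul,
      show D.x ^ p = 1 from (congrArg (D.x ^ ·) D.ord.symm).trans (pow_orderOf_eq_one D.x), one_pow, one_mul]
    exact pow_mem hv p

/-- Multiplicities at nonzero `k` that are all equal force the degree `p - 1`. -/
theorem not_all_pos (D : Frame P) (ζ : IrrCharacter G) (hdeg : charDegree (ζ : G → ℂ) + 2 = p)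
    (θ : IrrCharacter D.K0) : ¬ ∀ k : ZMod p, k ≠ 0 → 0 < mult D θ ζ k := fun h => by
  have h1 := sum_mult_le_deg D ζ θ
  have h2 : ∑ _k ∈ (Finset.univ : Finset (ZMod p)).erase 0, 1 ≤ ∑ k, mult D θ ζ k :=
    (Finset.sum_le_sum fun k hk => h k (Finset.ne_of_mem_erase hk)).trans
      (Finset.sum_le_sum_of_subset (Finset.subset_univ _))
  rw [Finset.sum_const, Finset.card_erase_of_mem (Finset.mem_univ _), Finset.card_univ, ZMod.card, smul_eq_mul,
    mul_one] at h2
  omega

set_option maxHeartbeats 1000000 in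
theorem exists_base (D : Frame P) (hp5 : 5 < p) (hnn : ¬ (P : Subgroup G).Normal) (ζ : IrrCharacter G)
    (hfaith : ∀ g : G, (ζ : G → ℂ) g = (ζ : G → ℂ) 1 → g = 1) (hdeg : charDegree (ζ : G → ℂ) + 2 = p) :
    ∃ θ y, Base D ζ θ y := by
  have hp7 : 7 ≤ p := by
    by_contra h
    obtain rfl : p = 6 := by omega
    exact absurd hp.out (by norm_num)
  set d := charDegree (ζ : G → ℂ) with hd
  have hxne : D.x ≠ 1 := fun e => by have := D.ord; rw [e, orderOf_one] at this; omega
  obtain ⟨θ, k₀, hk₀, hpos⟩ := exists_mult_pos D (ψ := ζ) ⟨D.x, D.x_mem, fun e => hxne (hfaith _ e)⟩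
  set q := Nat.card D.act.range with hq
  have hq0 : 0 < q := (range_pos_lt D).1
  have hqp : q ∣ p - 1 := by
    have h := D.act.range.card_subgroup_dvd_card
    rwa [Nat.card_eq_fintype_card (α := (ZMod p)ˣ), ZMod.card_units] at h
  have hle : fdeg D θ * q ≤ d := mul_range_le_deg D hk₀ hpos
  have hnc : ¬ IsConst D θ ζ := fun hc => not_all_pos D ζ hdeg θ fun k _ => by rw [hc k, ← hc k₀]; exact hpos
  obtain ⟨M, hM⟩ := exists_isPModular hp.out
  obtain ⟨B, hB⟩ := D.exists_induced hM θ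
  obtain ⟨S⟩ := exists_shape D hM hB
  -- it is exceptional
  have hY : ζ ∈ S.Y := by
    refine ((S.mem_iff ζ).1 (mem_induced D hM hnc hB)).resolve_left fun hX => not_all_pos D ζ hdeg θ fun k hk => ?_
    have hdiff : ∀ k : ZMod p, k ≠ 0 → (D.diff θ k ζ : ℂ) = (S.sgn ζ : ℂ) := fun k hk => by
      rw [Frame.cast_diff, Finset.sum_congr rfl (g := fun a => (S.sgn ζ : ℂ) * (1 - ZMod.stdAddChar (-k * a)))
        fun a _ => ?_, ← Finset.mul_sum, Finset.sum_sub_distrib, Frame.sum_std', if_neg (neg_ne_zero.2 hk),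
        Finset.sum_const, Finset.card_univ, ZMod.card, nsmul_eq_mul, mul_one, sub_zero]
      · field_simp [hp.out.ne_zero]
      · by_cases ha : a = 0
        · simp [ha]
        · rw [S.sec_X ζ hX a ha, neg_mul]
    have h1 : D.diff θ k ζ = D.diff θ k₀ ζ := Int.cast_injective (α := ℂ) ((hdiff k hk).trans (hdiff k₀ hk₀).symm)
    rw [diff_eq, diff_eq] at h1
    omega
  have hmod := S.deg_Y ζ hY
  have hF : 0 < fdeg D θ * q := Nat.mul_pos (fdeg_pos D θ) hq0
  obtain ⟨z, hz⟩ := Int.modEq_iff_dvd.1 hmod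
  rw [← hd, show (Nat.card D.act.range * charDegree (θ : D.K0 → ℂ)) = fdeg D θ * q from mul_comm _ _] at hz
  have hdp : (d : ℤ) + 2 = p := by exact_mod_cast hdeg
  have hFd : ((fdeg D θ * q : ℕ) : ℤ) ≤ d := by exact_mod_cast hle
  have hFcase : fdeg D θ * q = 2 ∨ fdeg D θ * q = d := by
    rcases S.sgn_A with hA | hA <;> rw [hA] at hz
    · left
      have h1 : (p : ℤ) ∣ (2 : ℤ) - (fdeg D θ * q : ℕ) := ⟨z + 1, by linear_combination hz + hdp⟩
      have hzero : (2 : ℤ) - (fdeg D θ * q : ℕ) = 0 := by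
        by_contra hne
        rcases lt_or_gt_of_ne hne with h | h
        · have := Int.le_of_dvd (by omega) (dvd_neg.2 h1)
          omega
        · have := Int.le_of_dvd h h1
          omega
      omega
    · right
      have h1 : (p : ℤ) ∣ ((fdeg D θ * q : ℕ) : ℤ) - d := ⟨z, by linear_combination hz⟩
      have hzero : ((fdeg D θ * q : ℕ) : ℤ) - d = 0 := by
        by_contra hne
        have := Int.le_of_dvd (by omega) (dvd_neg.2 h1)
        omega
      omega
  have hq2 : q ≤ 2 := by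
    rcases hFcase with h | h
    · exact Nat.le_of_dvd two_pos ⟨fdeg D θ, by rw [mul_comm]; exact h.symm⟩
    · have h1 : q ∣ d := h ▸ dvd_mul_left _ _
      obtain ⟨c, hc⟩ := hqp
      obtain ⟨c', hc'⟩ := h1
      have h2 : q ∣ 1 := by
        have : p - 1 = d + 1 := by omega
        rw [this] at hc
        exact (Nat.dvd_add_right ⟨c', hc'⟩).1 ⟨c, hc⟩
      have := Nat.le_of_dvd one_pos h2
      omega
  have he := autE_le_range D θ
  set e := Nat.card (D.autE θ) with hedef
  have he0 : 0 < e := Nat.card_pos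
  rcases pattern_sums D (θ := θ) (by omega) ζ with
    ⟨hc, -⟩ | ⟨s, -, -, hkk, -⟩ | ⟨δ, hδ, -, ⟨T, hT0, hTc, hTk⟩, hs1, -⟩
  · exact absurd hc hnc
  · exfalso
    refine not_all_pos D ζ hdeg θ fun k hk => ?_
    have h1 := hkk k hk
    have h2 := hkk k₀ hk₀
    omega
  -- the degree
  set r := (D.orb θ).card with hr
  have hr0 : 0 < r := Finset.card_pos.2 ⟨θ, D.self_mem_orb θ⟩
  have hre : r * e = q := D.card_orb_mul θ
  set S0 := ∑ k, mult D θ ζ k with hS0
  have horbsum : ∀ θ' ∈ D.orb θ, fdeg D θ' * ∑ k, mult D θ' ζ k = fdeg D θ * S0 := by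
    intro θ' hθ'
    obtain ⟨g, rfl⟩ := D.mem_orb.1 hθ'
    rw [fdeg_tw, hS0]
    congr 1
    exact Fintype.sum_equiv (Units.mulRight (D.act g)⁻¹) _ _ fun k => mult_tw D θ ζ g k
  obtain ⟨N, hN⟩ : ∃ N, d = r * (fdeg D θ * S0) + p * N := by
    refine ⟨∑ θ' ∈ (Finset.univ \ D.orb θ), fdeg D θ' * mult D θ' ζ 0, ?_⟩
    rw [hd, deg_eq' D, ← Finset.sum_sdiff (Finset.subset_univ (D.orb θ)), Finset.sum_congr rfl horbsum,
      Finset.sum_const, smul_eq_mul, add_comm]
    congr 1
    refine (Finset.sum_congr rfl fun θ' hθ' => ?_).trans (Finset.mul_sum _ _ _).symm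
    have hc : IsConst D θ' ζ := by
      by_contra h
      exact (Finset.mem_sdiff.1 hθ').2 (mem_orb_of_not_isConst D hnc h)
    rw [Finset.sum_congr rfl fun k _ => hc k, Finset.sum_const, Finset.card_univ, ZMod.card, smul_eq_mul]
    ring
  have hN0 : N = 0 := by
    by_contra h
    have := Nat.le_mul_of_pos_right p (Nat.pos_of_ne_zero h)
    omega
  rw [hN0, mul_zero, add_zero] at hN
  have hothers : ∀ θ' : IrrCharacter D.K0, θ' ∉ D.orb θ → ∀ k, mult D θ' ζ k = 0 := by
    intro θ' hθ' k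
    have h1 : d = r * (fdeg D θ * S0) + ∑ θ' ∈ (Finset.univ \ D.orb θ), fdeg D θ' * ∑ k, mult D θ' ζ k := by
      rw [hd, deg_eq' D, ← Finset.sum_sdiff (Finset.subset_univ (D.orb θ)), Finset.sum_congr rfl horbsum,
        Finset.sum_const, smul_eq_mul, add_comm]
    have h2 : ∑ θ' ∈ (Finset.univ \ D.orb θ), fdeg D θ' * ∑ k, mult D θ' ζ k = 0 := by omega
    have h3 := Finset.sum_eq_zero_iff.1 h2 θ' (Finset.mem_sdiff.2 ⟨Finset.mem_univ _, hθ'⟩)
    rcases Nat.mul_eq_zero.1 h3 with h | h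
    · exact absurd h (fdeg_pos D θ').ne'
    · exact Finset.sum_eq_zero_iff.1 h k (Finset.mem_univ _)
  have hNZ : (d : ℤ) = (r : ℤ) * (fdeg D θ * ((p : ℤ) * mult D θ ζ 0 + δ * e)) := by
    rw [← hs1]; exact_mod_cast hN
  have hM0 : (δ = 1 ∧ mult D θ ζ 0 = 0 ∧ fdeg D θ * q = d) ∨
      (δ = -1 ∧ mult D θ ζ 0 = 1 ∧ e = 2 ∧ r = 1 ∧ fdeg D θ = 1) := by
    have hrf : 1 ≤ r * fdeg D θ := Nat.mul_pos hr0 (fdeg_pos D θ)
    have hrf' : (1 : ℤ) ≤ (r : ℤ) * fdeg D θ := by exact_mod_cast hrf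
    rcases hδ with rfl | rfl
    · refine Or.inl ⟨rfl, ?_, ?_⟩
      · by_contra h
        have h1 : (1 : ℤ) ≤ mult D θ ζ 0 := by exact_mod_cast Nat.pos_of_ne_zero h
        nlinarith
      · have h0 : mult D θ ζ 0 = 0 := by
          by_contra h
          have h1 : (1 : ℤ) ≤ mult D θ ζ 0 := by exact_mod_cast Nat.pos_of_ne_zero h
          nlinarith
        rw [h0, Nat.cast_zero, mul_zero, zero_add, one_mul] at hNZ
        have h1 : d = r * (fdeg D θ * e) := by exact_mod_cast hNZ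
        rw [h1, ← hre]; ring
    · refine Or.inr ⟨rfl, ?_⟩
      have h1 : (1 : ℤ) ≤ mult D θ ζ 0 := by
        by_contra h
        have h0 : (mult D θ ζ 0 : ℤ) = 0 := by omega
        rw [h0] at hNZ
        have : (0 : ℤ) ≤ (r : ℤ) * (fdeg D θ * e) := by positivity
        nlinarith
      have he2 : e ≤ 2 := le_trans he hq2
      have hpe : (0 : ℤ) ≤ (p : ℤ) * ((mult D θ ζ 0 : ℤ) - 1) := mul_nonneg (Nat.cast_nonneg _) (by omega)
      have hA : (p : ℤ) - 2 ≤ (p : ℤ) * mult D θ ζ 0 + -1 * e := by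
        have : (e : ℤ) ≤ 2 := by exact_mod_cast he2
        linarith
      have hrf1 : r * fdeg D θ = 1 := by
        by_contra h
        have h2 : (2 : ℤ) ≤ (r : ℤ) * fdeg D θ := by exact_mod_cast (show 2 ≤ r * fdeg D θ by omega)
        nlinarith
      have hr1 : r = 1 := Nat.eq_one_of_mul_eq_one_right hrf1
      have hf1 : fdeg D θ = 1 := Nat.eq_one_of_mul_eq_one_left hrf1
      rw [hr1, hf1] at hNZ
      simp only [Nat.cast_one, one_mul] at hNZ
      have hm1 : mult D θ ζ 0 = 1 := by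
        by_contra h
        have : (p : ℤ) * 2 ≤ p * mult D θ ζ 0 :=
          mul_le_mul_of_nonneg_left (by omega) (Nat.cast_nonneg _)
        omega
      rw [hm1] at hNZ
      exact ⟨hm1, by omega, hr1, hf1⟩
  rcases hM0 with ⟨rfl, h0, hqd⟩ | ⟨rfl, h1, he2, hr1, hf1⟩
  · -- then `x` would be central
    exfalso
    have hq1 : q = 1 := by
      rcases Nat.lt_or_ge q 2 with h | h
      · omega
      have h2 : q = 2 := by omega
      obtain ⟨c, hc⟩ := hp.out.odd_of_ne_two (by omega)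
      rw [h2] at hqd
      omega
    have he1 : e = 1 := by omega
    have hr1 : r = 1 := by rw [he1, mul_one, hq1] at hre; exact hre
    obtain ⟨k₁, hk₁⟩ := Finset.card_eq_one.1 (hTc.trans he1)
    refine not_central_x D hnn (DegreeTools.mem_center_of_norm_eq ζ hfaith D.x ?_)
    have horb : D.orb θ = {θ} := Finset.eq_singleton_iff_unique_mem.2 ⟨D.self_mem_orb θ, fun θ' h => by
      obtain ⟨z, hz⟩ := Finset.card_eq_one.1 hr1
      rw [hz] at h
      have hh := D.self_mem_orb θ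
      rw [hz] at hh
      rw [Finset.mem_singleton.1 h, Finset.mem_singleton.1 hh]⟩
    have hx := apply_xpow D ζ 1
    rw [ZMod.val_one, pow_one, Finset.sum_eq_single k₁] at hx
    · rw [hx, norm_mul, Complex.norm_natCast]
      have hn : nP D ζ k₁ = d := by
        rw [nP, Finset.sum_eq_single θ (fun θ' _ h => by
          rw [hothers θ' (by rw [horb, Finset.mem_singleton]; exact h), mul_zero])
          (fun h => absurd (Finset.mem_univ _) h)]
        have h2 := hTk k₁
        rw [if_pos (by rw [hk₁]; exact Finset.mem_singleton_self _), h0] at h2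
        rw [show mult D θ ζ k₁ = 1 by omega, mul_one, ← hqd, hq1, mul_one]
      rw [hn, AddChar.norm_apply, mul_one]
    · intro k _ hk
      rw [nP, Finset.sum_eq_zero fun θ' _ => ?_, Nat.cast_zero, zero_mul]
      by_cases h : θ' = θ
      · subst h
        have h2 := hTk k
        rw [if_neg (by rw [hk₁, Finset.mem_singleton]; exact hk), h0] at h2
        rw [show mult D θ' ζ k = 0 by omega, mul_zero]
      · rw [hothers θ' (by rw [horb, Finset.mem_singleton]; exact h), mul_zero]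
    · exact fun h => absurd (Finset.mem_univ _) h
  -- the automizer has order two
  have hq' : q = 2 := by rw [hr1, he2] at hre; omega
  obtain ⟨y, hy, hy2⟩ := exists_inverting D hq'
  have hother : ∀ θ' : IrrCharacter D.K0, θ' ≠ θ → ∀ k, mult D θ' ζ k = 0 := fun θ' hne => hothers θ' fun h => by
    obtain ⟨z, hz⟩ := Finset.card_eq_one.1 hr1
    rw [hz, Finset.mem_singleton] at h
    have hh := D.self_mem_orb θ
    rw [hz, Finset.mem_singleton] at hh
    exact hne (h.trans hh.symm)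
  have hsec0 : ∀ θ' : IrrCharacter D.K0, θ' ≠ θ → ∀ a, D.sec θ' ζ a = 0 := fun θ' hne a => by
    rw [sec_eq]
    exact Finset.sum_eq_zero fun k _ => by rw [hother θ' hne k, Nat.cast_zero, zero_mul]
  have hθ1 : (θ : D.K0 → ℂ) 1 = 1 := by rw [irr_one_eq, show charDegree (θ : D.K0 → ℂ) = 1 from hf1, Nat.cast_one]
  have hel : ∀ (a : ZMod p) (v : D.K0), (ζ : G → ℂ) (D.el a v : G) = D.sec θ ζ a * (θ : D.K0 → ℂ) v := fun a v => by
    rw [D.apply_mk, Finset.sum_eq_single θ (fun θ' _ h => by rw [hsec0 θ' h a, zero_mul])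
      (fun h => absurd (Finset.mem_univ _) h)]
  have hval : ∀ (a : ZMod p) (v : D.K0),
      (ζ : G → ℂ) (D.el a v : G) = (θ : D.K0 → ℂ) v * (ζ : G → ℂ) (D.x ^ a.val) := fun a v => by
    have h := hel a 1
    rw [D.coe_el, OneMemClass.coe_one, mul_one, hθ1, mul_one] at h
    rw [hel, h, mul_comm]
  have hnP : ∀ k, nP D ζ k = mult D θ ζ k := fun k => by
    rw [nP, Finset.sum_eq_single θ (fun θ' _ h => by rw [hother θ' h k, mul_zero])
      (fun h => absurd (Finset.mem_univ _) h), hf1, one_mul]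
  have hn01 : ∀ k, nP D ζ k ^ 2 = nP D ζ k := fun k => by
    have h2 := hTk k
    rw [h1] at h2
    rw [hnP]
    split_ifs at h2 <;> [rw [show mult D θ ζ k = 0 by omega]; rw [show mult D θ ζ k = 1 by omega]] <;> norm_num
  have hx0 : (ζ : G → ℂ) (D.x ^ (0 : ZMod p).val) = (d : ℂ) := by rw [ZMod.val_zero, pow_zero, irr_one_eq]
  have hpd : (p : ℂ) = (d : ℂ) + 2 := by exact_mod_cast hdeg.symm
  have hK0 : D.K0 = Subgroup.center G := by
    refine le_antisymm (fun v hv => DegreeTools.mem_center_of_norm_eq ζ hfaith v ?_) (center_le_K0 D ?_)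
    · have h := hval 0 ⟨v, hv⟩
      rw [D.el_zero] at h
      simp only at h
      rw [h, norm_mul, hx0, Complex.norm_natCast]
      obtain ⟨f, hf⟩ := exists_hom_of_apply_one_eq_one (isCharacter_irr θ) hθ1
      obtain ⟨k, hk, hk1⟩ := (isOfFinOrder_of_finite (⟨v, hv⟩ : D.K0)).exists_pow_eq_one
      rw [hf, Complex.norm_eq_one_of_pow_eq_one (n := k)
        (by rw [← Units.val_pow_eq_pow_val, ← map_pow, hk1, map_one, Units.val_one]) hk.ne', one_mul]
    · rw [Subgroup.eq_bot_iff_forall]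
      rintro u ⟨hu, huZ⟩
      by_contra hne
      refine not_central_x D hnn ?_
      have hle' : Subgroup.zpowers u ≤ Subgroup.center G := Subgroup.zpowers_le.2 huZ
      rw [PrimeOrder.zpowers_eq P D.card_P hu hne] at hle'
      exact hle' D.x_mem
  refine ⟨θ, y, ⟨hp5, hdeg, hq', hK0, hf1, hfaith, hnc, hval, ?_, ?_, hy, hy2⟩⟩
  · have h := sum_xpow D ζ
    rw [hnP, h1, ← Finset.add_sum_erase _ _ (Finset.mem_univ (0 : ZMod p)), hx0, Nat.cast_one, mul_one] at h
    linear_combination h + hpd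
  · have h := sum_normSq_xpow D ζ
    rw [Finset.sum_congr rfl fun k _ => hn01 k, ← deg_eq D, ← hd,
      ← Finset.add_sum_erase _ _ (Finset.mem_univ (0 : ZMod p)), hx0, map_natCast] at h
    linear_combination h + ((d : ℂ) - 2) * hpd

end CfsgLib.Char.DegPMinusTwo
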