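import Cfsg.Agent.Lib.Char.DegPMinusTwo.Compare
import Mathlib.GroupTheory.NoncommCoprod

/-!
# A faithful character of degree `p - 2`: the group is its derived group times its centre
-/

set_option autoImplicit false

open scoped ComplexConjugate Classical commutatorElement

namespace CfsgLib.Char.DegPMinusTwo

open Cfsg CfsgLib CfsgLib.Blocks CfsgLib.Blocks.DefectOne CfsgLib.CharDeep.ExactP

universe u

variable {G : Type u} [Group G] [Fintype G] {p : ℕ} [hp : Fact p.Prime] {P : Sylow p G} {D : Frame P}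
  {ζ : IrrCharacter G} {θ : IrrCharacter D.K0} {y : G}

theorem Base.norm_theta (B : Base D ζ θ y) (v : D.K0) : ‖(θ : D.K0 → ℂ) v‖ = 1 := by
  obtain ⟨l, hl⟩ := exists_hom_of_apply_one_eq_one (isCharacter_irr θ) B.theta_one_apply
  obtain ⟨k, hk, hk1⟩ := (isOfFinOrder_of_finite v).exists_pow_eq_one
  rw [hl]
  exact Complex.norm_eq_one_of_pow_eq_one (n := k)
    (by rw [← Units.val_pow_eq_pow_val, ← map_pow, hk1, map_one, Units.val_one]) hk.ne'

/-- A linear character trivial on the centre is trivial. -/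
theorem Base.hom_eq_one (B : Base D ζ θ y) (f : G →* ℂˣ) (hf : ∀ v ∈ D.K0, f v = 1) (g : G) : f g = 1 := by
  obtain ⟨Q, η, l, -, -, hb, -, -, he⟩ := B.exists_linear
  set φ : IrrCharacter G := ⟨fun g => (f g : ℂ), isIrrCharacter_hom f⟩ with hφ
  have hφv : ∀ g, (φ : G → ℂ) g = (f g : ℂ) := fun g => rfl
  have hsec : D.sec (θone D) φ 1 = 1 := by
    rw [Frame.sec, Frame.comp, Cfsg.classInner, Finset.sum_congr rfl (g := fun _ => (1 : ℂ)) fun v _ => ?_,
      Finset.sum_const, Finset.card_univ, ← Nat.card_eq_fintype_card, nsmul_eq_mul, mul_one,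
      inv_mul_cancel₀ Char.card_ne_zero]
    rw [θone_apply, map_one, mul_one, hφv, D.coe_el, map_mul, map_pow, B.hom_x, hf v v.2]
    simp
  have hdeg : charDegree (φ : G → ℂ) = 1 := by
    have h := hφv 1
    rw [irr_one_eq, map_one, Units.val_one] at h
    exact_mod_cast h
  have := B.seven_le
  rcases Q.K.mem_of_sec_ne one_ne_zero (χ := φ) (by rw [hsec]; exact one_ne_zero) with h | h | h
  · refine Units.ext ?_
    rw [← hφv, h, Q.a_eq, oneChar_apply, Units.val_one]
  · rw [h] at hdeg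
    omega
  · have := Q.K.deg_Y φ h
    omega

theorem Base.sup_center (B : Base D ζ θ y) : commutator G ⊔ Subgroup.center G = ⊤ := by
  refine eq_top_iff.2 fun g _ => ?_
  by_contra hg
  let C : Subgroup (Abelianization G) := (Subgroup.center G).map Abelianization.of
  have hne : QuotientGroup.mk' C (Abelianization.of g) ≠ 1 := by
    intro h
    obtain ⟨z, hz, hzg⟩ := (QuotientGroup.eq_one_iff _).1 h
    refine hg ?_
    have hc : z⁻¹ * g ∈ commutator G := by
      rw [← Abelianization.ker_of, MonoidHom.mem_ker, map_mul, map_inv, hzg, inv_mul_cancel]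
    have h1 : z * (z⁻¹ * g) ∈ commutator G ⊔ Subgroup.center G :=
      mul_mem (Subgroup.mem_sup_right hz) (Subgroup.mem_sup_left hc)
    rwa [mul_inv_cancel_left] at h1
  obtain ⟨φ, hφ⟩ := CommGroup.exists_apply_ne_one_of_hasEnoughRootsOfUnity (Abelianization G ⧸ C) ℂ hne
  refine hφ (B.hom_eq_one ((φ.comp (QuotientGroup.mk' C)).comp Abelianization.of) (fun v hv => ?_) g)
  rw [MonoidHom.comp_apply, MonoidHom.comp_apply,
    show QuotientGroup.mk' C (Abelianization.of v) = 1 from
      (QuotientGroup.eq_one_iff _).2 ⟨v, B.K0_eq ▸ hv, rfl⟩, map_one]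

theorem Base.inf_center (B : Base D ζ θ y) : commutator G ⊓ Subgroup.center G = ⊥ := by
  obtain ⟨Q, η, l, -, hl, -⟩ := B.exists_linear
  refine (Subgroup.eq_bot_iff_forall _).2 fun v hv => ?_
  have h1 : l v = 1 := Abelianization.commutator_subset_ker l hv.1
  have h2 := hl ⟨v, B.K0_eq.symm ▸ hv.2⟩
  simp only [h1, Units.val_one] at h2
  exact congrArg Subtype.val (B.theta_inj h2.symm)

omit [Fintype G] in
theorem exists_prod_equiv (H : Subgroup G) (hsup : H ⊔ Subgroup.center G = ⊤) (hinf : H ⊓ Subgroup.center G = ⊥) :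
    ∃ e : H × Subgroup.center G ≃* G, ∀ a, e a = (a.1 : G) * (a.2 : G) := by
  have hcomm : ∀ (a : H) (b : Subgroup.center G), Commute (H.subtype a) ((Subgroup.center G).subtype b) :=
    fun a b => Subgroup.mem_center_iff.1 b.2 a
  let f := MonoidHom.noncommCoprod H.subtype (Subgroup.center G).subtype hcomm
  refine ⟨MulEquiv.ofBijective f ⟨?_, fun g => ?_⟩, fun a => rfl⟩
  · rw [injective_iff_map_eq_one]
    rintro ⟨a, b⟩ h
    have h' : (a : G) * (b : G) = 1 := h
    have hb : (b : G) ∈ H ⊓ Subgroup.center G := Subgroup.mem_inf.2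
      ⟨by rw [← inv_eq_of_mul_eq_one_right h']; exact inv_mem a.2, b.2⟩
    rw [hinf, Subgroup.mem_bot] at hb
    rw [hb, mul_one] at h'
    exact Prod.ext (Subtype.ext h') (Subtype.ext hb)
  · obtain ⟨a, ha, b, hb, rfl⟩ := Subgroup.mem_sup_of_normal_right.1 (hsup.symm ▸ Subgroup.mem_top g)
    exact ⟨(⟨a, ha⟩, ⟨b, hb⟩), rfl⟩

theorem Base.x_mem_commutator (B : Base D ζ θ y) : D.x ∈ commutator G := by
  have h1 : ⁅y, D.x⁆ ∈ commutator G := Subgroup.commutator_mem_commutator (Subgroup.mem_top y) (Subgroup.mem_top D.x)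
  rw [commutatorElement_def, B.inv] at h1
  obtain ⟨k, hk⟩ := hp.out.odd_of_ne_two (by have := B.five_lt; omega)
  have h2 : D.x = ((D.x⁻¹ * D.x⁻¹) ^ (k + 1))⁻¹ := by
    rw [← sq, inv_pow, inv_pow, inv_inv, ← pow_mul, show 2 * (k + 1) = p + 1 by omega, pow_succ,
      PrimeOrder.pow_prime_eq_one D.ord, one_mul]
  rw [h2]
  exact inv_mem (pow_mem h1 _)

set_option maxHeartbeats 1000000 in
theorem Base.exists_reduced (B : Base D ζ θ y) (hnn : ¬ (P : Subgroup G).Normal) :
    ∃ H : Subgroup G, Nonempty (G ≃* H × Subgroup.center G) ∧ commutator H = ⊤ ∧ Subgroup.center H = ⊥ ∧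
      ∃ (P' : Sylow p H) (D' : Frame P') (ζ' : IrrCharacter H) (θ' : IrrCharacter D'.K0) (y' : H),
        Base D' ζ' θ' y' := by
  set H := commutator G with hH
  obtain ⟨e, he⟩ := exists_prod_equiv H B.sup_center B.inf_center
  have hperf : commutator H = ⊤ := by
    refine eq_top_iff.2 fun a _ => ?_
    have hle : commutator G ≤ (commutator H).map H.subtype := by
      rw [commutator_def, Subgroup.commutator_le]
      intro g _ g' _
      have h1 := map_commutatorElement e (e.symm g) (e.symm g')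
      rw [e.apply_symm_apply, e.apply_symm_apply, he] at h1
      rw [← h1, show ((⁅e.symm g, e.symm g'⁆).2 : G) = 1 from congrArg Subtype.val
        (commutatorElement_eq_one_iff_commute.2
          (show Commute (e.symm g).2 (e.symm g').2 from
            Subtype.ext (Subgroup.mem_center_iff.1 (e.symm g').2.2 _))), mul_one]
      exact ⟨_, Subgroup.commutator_mem_commutator (Subgroup.mem_top _) (Subgroup.mem_top _), rfl⟩
    obtain ⟨b, hb, hba⟩ := hle (show (a : G) ∈ commutator G from a.2)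
    rwa [show b = a from Subtype.ext hba] at hb
  have hsplit : ∀ g : G, ∃ (a : H) (b : Subgroup.center G), g = (a : G) * (b : G) := fun g =>
    ⟨(e.symm g).1, (e.symm g).2, by rw [← he, e.apply_symm_apply]⟩
  have hcenter : Subgroup.center H = ⊥ := by
    refine (Subgroup.eq_bot_iff_forall _).2 fun a ha => ?_
    have h : (a : G) ∈ H ⊓ Subgroup.center G := ⟨a.2, Subgroup.mem_center_iff.2 fun g => by
      obtain ⟨c, b, rfl⟩ := hsplit g
      rw [mul_assoc, (Subgroup.mem_center_iff.1 b.2 (a : G)).symm, ← mul_assoc, ← mul_assoc,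
        show (c : G) * (a : G) = (a : G) * (c : G) from congrArg Subtype.val (Subgroup.mem_center_iff.1 ha c)]⟩
    rw [B.inf_center, Subgroup.mem_bot] at h
    exact Subtype.ext h
  have hPH : (P : Subgroup G) ≤ H := by rw [← D.zp]; exact Subgroup.zpowers_le.2 B.x_mem_commutator
  set P' : Sylow p H := P.subtype hPH
  have hP' : Nat.card P' = p := by
    show Nat.card ((P : Subgroup G).subgroupOf H) = p
    rw [Nat.card_congr (Subgroup.subgroupOfEquivOfLe hPH).toEquiv]
    exact D.card_P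
  have hnn' : ¬ (P' : Subgroup H).Normal := fun h => hnn ⟨fun u hu g => by
    obtain ⟨c, b, rfl⟩ := hsplit g
    rw [mul_assoc (c : G), ← Subgroup.mem_center_iff.1 b.2 u, ← mul_assoc, mul_inv_rev, ← mul_assoc,
      mul_inv_cancel_right]
    exact h.conj_mem ⟨u, hPH hu⟩ hu c⟩
  obtain ⟨D'⟩ := exists_frame P' hP'
  have hirr : IsIrrCharacter H fun h : H => (ζ : G → ℂ) h := by
    refine IsCharacter.isIrrCharacter_of_norm_one (IsCharacter.restrict (isCharacter_irr ζ) H) ?_
    have h1 := classInner_irr_self ζ.2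
    have hcard : (Nat.card G : ℂ) = (Nat.card H : ℂ) * (Nat.card (Subgroup.center G) : ℂ) := by
      rw [← Nat.card_congr e.toEquiv, Nat.card_prod, Nat.cast_mul]
    rw [Cfsg.classInner, ← Fintype.sum_equiv e.toEquiv
      (fun a : H × Subgroup.center G => (ζ : G → ℂ) (a.1 : G) * conj ((ζ : G → ℂ) (a.1 : G))) _ fun a => ?_,
      Fintype.sum_prod_type] at h1
    · simp only [Finset.sum_const, Finset.card_univ, nsmul_eq_mul, ← Nat.card_eq_fintype_card, ← Finset.mul_sum,
        hcard] at h1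
      rw [Cfsg.classInner]
      rw [mul_inv, mul_assoc, inv_mul_cancel_left₀ Char.card_ne_zero] at h1
      exact h1
    · show _ = (ζ : G → ℂ) (e a) * conj ((ζ : G → ℂ) (e a))
      rw [he, show ((a.2 : G)) = (((⟨(a.2 : G), B.K0_eq.symm ▸ a.2.2⟩ : D.K0)) : G) from rfl, B.apply_mul_center,
        map_mul, mul_mul_mul_comm, Complex.mul_conj' ((θ : D.K0 → ℂ) _), B.norm_theta]
      simp
  set ζ' : IrrCharacter H := ⟨_, hirr⟩
  have hdeg : charDegree (ζ' : H → ℂ) + 2 = p := by
    have h : (ζ' : H → ℂ) 1 = (ζ : G → ℂ) 1 := rfl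
    rw [irr_one_eq, irr_one_eq, Nat.cast_inj] at h
    rw [h]; exact B.deg
  obtain ⟨θ', y', hB⟩ := exists_base D' B.five_lt hnn' ζ' (fun h hh => Subtype.ext (B.faithful _ hh)) hdeg
  exact ⟨H, ⟨e.symm⟩, hperf, hcenter, P', D', ζ', θ', y', hB⟩

end CfsgLib.Char.DegPMinusTwo
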